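import Groth.Agent.H27Quot.Points

/-! A quotient by a finite group is a categorical quotient. -/

set_option autoImplicit false
set_option linter.style.haveILetI false
universe u

open CategoryTheory AlgebraicGeometry TopologicalSpace

namespace H18Quot

open Groth.Agent

variable {X Y Z : Scheme.{u}} {G : Type u} [Group G] [Finite G] {ρ : G →* Aut X} {p : X ⟶ Y}

theorem exists_smul_eq (hq : SGA1.IsQuot ρ p) {x₁ x₂ : X} (h : p x₁ = p x₂) :
    ∃ g, (ρ g).hom x₁ = x₂ := by
  obtain ⟨z, hz1, hz2⟩ := Scheme.Pullback.exists_preimage_pullback (f := p) (g := p) x₁ x₂ h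
  let a := (Limits.pullback p p).fromSpecResidueField z
  obtain ⟨g, hg⟩ := H27Quot.exists_eq_comp_of_point hq (a ≫ Limits.pullback.fst p p)
    (a ≫ Limits.pullback.snd p p) (by rw [Category.assoc, Category.assoc, Limits.pullback.condition])
  refine ⟨g, ?_⟩
  have h2 := congrArg (fun m => m (IsLocalRing.closedPoint _)) hg
  simp only [Scheme.Hom.comp_apply] at h2
  erw [show ∀ s, a s = z from fun s => Scheme.fromSpecResidueField_apply _ _, hz1, hz2] at h2
  exact h2.symm

theorem isIntegralHom (hq : SGA1.IsQuot ρ p) : IsIntegralHom p := by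
  haveI := hq.affine
  exact ⟨fun U _ => H27Quot.isIntegral_app hq U⟩

theorem isQuotientMap (hq : SGA1.IsQuot ρ p) : Topology.IsQuotientMap p := by
  haveI := isIntegralHom hq
  exact p.isClosedMap.isQuotientMap p.continuous (H27Quot.surjective hq)

variable (hq : SGA1.IsQuot ρ p) (h : X ⟶ Z) (hh : ∀ g : G, (ρ g).hom ≫ h = h)

include hh in
theorem const_fibre (hq : SGA1.IsQuot ρ p) {x₁ x₂ : X} (e : p x₁ = p x₂) : h x₁ = h x₂ := by
  obtain ⟨g, rfl⟩ := exists_smul_eq hq e
  rw [← Scheme.Hom.comp_apply, hh]

/-- The underlying map of the descended morphism. -/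
noncomputable def descBase : C(Y, Z) :=
  ⟨fun y => h (Function.surjInv (H27Quot.surjective hq) y), by
    refine (isQuotientMap hq).continuous_iff.mpr ?_
    have e : (fun y => h (Function.surjInv (H27Quot.surjective hq) y)) ∘ p = h :=
      funext fun x => const_fibre h hh hq (Function.surjInv_eq (H27Quot.surjective hq) (p x))
    rw [e]
    exact h.continuous⟩

theorem descBase_apply (x : X) : descBase hq h hh (p x) = h x :=
  const_fibre h hh hq (Function.surjInv_eq (H27Quot.surjective hq) (p x))

/-- The preimage of an open of `Z` in the quotient. -/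
noncomputable def descPre (V : Z.Opens) : Y.Opens := V.comap (descBase hq h hh)

theorem preimage_descPre (V : Z.Opens) : p ⁻¹ᵁ descPre hq h hh V = h ⁻¹ᵁ V := by
  refine SetLike.ext fun x => ?_
  show descBase hq h hh (p x) ∈ V ↔ h x ∈ V
  rw [descBase_apply]

theorem mem_range (V : Z.Opens) (s : Γ(Z, V)) :
    (h.appLE V (p ⁻¹ᵁ descPre hq h hh V) (preimage_descPre hq h hh V).le).hom s ∈
      Set.range (p.app (descPre hq h hh V)).hom := by
  refine (hq.range_iff _ _).mpr fun g => ?_
  rw [← CommRingCat.comp_apply, Scheme.Hom.appLE_comp_appLE]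
  simp only [hh g]

/-- Sections of the descended morphism. -/
noncomputable def descApp (V : Z.Opens) : Γ(Z, V) →+* Γ(Y, descPre hq h hh V) where
  toFun s := (mem_range hq h hh V s).choose
  map_one' := hq.injective _ (by rw [(mem_range hq h hh V 1).choose_spec, map_one, map_one])
  map_zero' := hq.injective _ (by rw [(mem_range hq h hh V 0).choose_spec, map_zero, map_zero])
  map_mul' s t := hq.injective _ (by
    rw [(mem_range hq h hh V (s * t)).choose_spec, map_mul, map_mul, (mem_range hq h hh V s).choose_spec,
      (mem_range hq h hh V t).choose_spec])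
  map_add' s t := hq.injective _ (by
    rw [(mem_range hq h hh V (s + t)).choose_spec, map_add, map_add, (mem_range hq h hh V s).choose_spec,
      (mem_range hq h hh V t).choose_spec])

theorem app_descApp (V : Z.Opens) (s : Γ(Z, V)) :
    (p.app (descPre hq h hh V)).hom (descApp hq h hh V s) =
      (h.appLE V (p ⁻¹ᵁ descPre hq h hh V) (preimage_descPre hq h hh V).le).hom s :=
  (mem_range hq h hh V s).choose_spec

/-- The descended morphism of presheafed spaces. -/
noncomputable def descPsh : Y.toPresheafedSpace ⟶ Z.toPresheafedSpace where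
  base := TopCat.ofHom (descBase hq h hh)
  c :=
    { app := fun V => CommRingCat.ofHom (descApp hq h hh V.unop)
      naturality := fun V W i => by
        refine CommRingCat.hom_ext (RingHom.ext fun s => ?_)
        apply hq.injective (descPre hq h hh W.unop)
        show (p.app _).hom (descApp hq h hh W.unop ((Z.presheaf.map i).hom s)) =
          (p.app _).hom ((Y.presheaf.map (homOfLE (show descPre hq h hh W.unop ≤ descPre hq h hh V.unop from
            fun y hy => i.unop.le hy)).op).hom (descApp hq h hh V.unop s))
        rw [app_descApp, ← CommRingCat.comp_apply _ (p.app _), p.naturality, CommRingCat.comp_apply,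
          app_descApp, ← CommRingCat.comp_apply, ← CommRingCat.comp_apply, Scheme.Hom.map_appLE,
          Scheme.Hom.appLE_map] }

include hh in
theorem exists_desc (hq : SGA1.IsQuot ρ p) : ∃ h' : Y ⟶ Z, p ≫ h' = h := by
  let f := descPsh hq h hh
  have hloc : ∀ y, IsLocalHom (f.stalkMap y).hom := by
    intro y
    refine ⟨fun a ha => ?_⟩
    obtain ⟨x, rfl⟩ := H27Quot.surjective hq y
    obtain ⟨V, hV, s, rfl⟩ := Z.presheaf.germ_exist a
    have hx : x ∈ p ⁻¹ᵁ descPre hq h hh V := hV
    have e := PresheafedSpace.stalkMap_germ_apply f V (p x) hV s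
    have hb : p x ∈ Y.basicOpen (descApp hq h hh V s) := by
      rw [Scheme.mem_basicOpen _ _ _ (show p x ∈ descPre hq h hh V from hV)]
      rw [e] at ha
      exact ha
    have hb' : x ∈ X.basicOpen ((p.app _).hom (descApp hq h hh V s)) := by
      rw [← Scheme.preimage_basicOpen]
      exact hb
    rw [app_descApp, Scheme.Hom.appLE, CommRingCat.comp_apply, Scheme.basicOpen_res,
      ← Scheme.preimage_basicOpen] at hb'
    have hb2 : h x ∈ Z.basicOpen s := hb'.2
    have hcb : (f.base : Y → Z) (p x) = h x := descBase_apply hq h hh x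
    rw [← hcb, Scheme.mem_basicOpen _ _ _ hV] at hb2
    exact hb2
  let h' : Y ⟶ Z := ⟨{ f with prop := hloc }⟩
  refine ⟨h', ?_⟩
  have hb : (p ≫ h').base = h.base := by
    ext x
    exact descBase_apply hq h hh x
  refine Scheme.Hom.ext hb fun V => ?_
  refine CommRingCat.hom_ext (RingHom.ext fun s => ?_)
  have e := app_descApp hq h hh V s
  show (X.presheaf.map _).hom ((p.app (descPre hq h hh V)).hom (descApp hq h hh V s)) = _
  rw [e, ← CommRingCat.comp_apply, Scheme.Hom.appLE_map, Scheme.Hom.appLE_eq_app]

end H18Quot
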