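import Groth.Agent.H18Et.GammaBC

/-! Invariants of a finite group commute with flat base change. -/

set_option autoImplicit false

universe u

open CategoryTheory CategoryTheory.Limits TensorProduct

namespace H18Quot

variable {B A B' A' : CommRingCat.{u}} {a : B ⟶ A} {b : B ⟶ B'} {c : A ⟶ A'} {d : B' ⟶ A'}

theorem invariants_baseChange (h : IsPushout a b c d) (hb : b.hom.Flat) {G : Type u} [Finite G]
    (σ : G → (A →+* A)) (σ' : G → (A' →+* A')) (hσa : ∀ g r, σ g (a r) = a r)
    (hσc : ∀ g x, σ' g (c x) = c (σ g x)) (hσd : ∀ g y, σ' g (d y) = d y)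
    (hinj : Function.Injective a) (hinv : ∀ x, (∀ g, σ g x = x) → x ∈ Set.range a) :
    Function.Injective d ∧ ∀ z, (∀ g, σ' g z = z) → z ∈ Set.range d := by
  classical
  haveI := Fintype.ofFinite G
  letI := a.hom.toAlgebra
  letI := b.hom.toAlgebra
  letI := d.hom.toAlgebra
  letI : Algebra B A' := (d.hom.comp b.hom).toAlgebra
  haveI : IsScalarTower B B' A' := IsScalarTower.of_algebraMap_eq fun _ => rfl
  haveI : Module.Flat B B' := hb
  obtain ⟨δ, hδ, hbc⟩ := Groth.Agent.H18Et.GammaBC.isBaseChange_of_isPushout h.flip
  let e : B' ⊗[B] A ≃ₗ[B'] A' := hbc.equiv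
  have he : ∀ t x, e (t ⊗ₜ[B] x) = d t * c x := fun t x => by
    rw [show e (t ⊗ₜ[B] x) = t • δ x from hbc.equiv_tmul t x, Algebra.smul_def, hδ]
    rfl
  let f : B →ₗ[B] A := Algebra.linearMap B A
  let s : G → (A →ₗ[B] A) := fun g =>
    { toFun := σ g
      map_add' := map_add (σ g)
      map_smul' := fun r x => by
        simp only [Algebra.smul_def, map_mul, RingHom.id_apply]
        rw [show σ g (algebraMap B A r) = algebraMap B A r from hσa g r] }
  let D : A →ₗ[B] (G → A) := LinearMap.pi fun g => s g - LinearMap.id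
  have hex : Function.Exact f D := fun x => by
    constructor
    · intro hx
      obtain ⟨r, hr⟩ := hinv x fun g => sub_eq_zero.mp (congrFun hx g)
      exact ⟨r, hr⟩
    · rintro ⟨r, rfl⟩
      funext g
      exact sub_eq_zero.mpr (hσa g r)
  have hkey : ∀ g z, e ((s g).lTensor B' z) = σ' g (e z) := by
    intro g z
    induction z using TensorProduct.induction_on with
    | zero => simp
    | tmul t x =>
      rw [LinearMap.lTensor_tmul, he, he, map_mul, hσd, hσc]
      rfl
    | add u v hu hv => simp only [map_add, hu, hv]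
  have hf : ∀ t, e (f.lTensor B' (t ⊗ₜ[B] 1)) = d t := fun t => by
    rw [LinearMap.lTensor_tmul, he, show f 1 = 1 from map_one (algebraMap B A), map_one, mul_one]
  have hrid : ∀ w : B' ⊗[B] B, e (f.lTensor B' w) = d (TensorProduct.rid B B' w) := fun w => by
    rw [← hf, ← TensorProduct.rid_symm_apply, LinearEquiv.symm_apply_apply]
  refine ⟨fun t₁ t₂ ht => ?_, fun z hz => ?_⟩
  · rw [← hf, ← hf] at ht
    have h2 := congrArg (TensorProduct.rid B B')
      (Module.Flat.lTensor_preserves_injective_linearMap f hinj (e.injective ht))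
    simpa using h2
  · have h0 : D.lTensor B' (e.symm z) = 0 := by
      apply (TensorProduct.piRight B B B' fun _ : G => A).injective
      rw [map_zero]
      funext g
      have h1 : ∀ w : B' ⊗[B] A, TensorProduct.piRight B B B' (fun _ : G => A) (D.lTensor B' w) g =
          (s g).lTensor B' w - w := fun w => by
        induction w using TensorProduct.induction_on with
        | zero => simp
        | tmul t x =>
          rw [LinearMap.lTensor_tmul, TensorProduct.piRight_apply, TensorProduct.piRightHom_tmul]
          simp [D, tmul_sub]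
        | add u v hu hv => simp only [map_add, Pi.add_apply, hu, hv]; abel
      rw [h1]
      refine sub_eq_zero.mpr (e.injective ?_)
      rw [hkey, LinearEquiv.apply_symm_apply]
      exact hz g
    obtain ⟨w, hw⟩ := (Module.Flat.lTensor_exact B' hex _).mp h0
    refine ⟨TensorProduct.rid B B' w, ?_⟩
    rw [← hrid, hw, LinearEquiv.apply_symm_apply]

end H18Quot
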