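import Groth.Agent.H18Quot.Criterion
import Groth.Agent.H18Quot.InvariantsBC

/-! Quotients of affine schemes by finite groups. -/

set_option autoImplicit false
set_option linter.style.haveILetI false
universe u

open CategoryTheory AlgebraicGeometry

namespace H18Quot

variable {X Y : Scheme.{u}} {G : Type u} [Group G] [Finite G] (ρ : G →* Aut X) (p : X ⟶ Y)

/-- Over an affine base it is enough to check invariants on global sections. -/
theorem isQuot_of_isAffine [IsAffine Y] [IsAffineHom p] (hinv : ∀ g : G, (ρ g).hom ≫ p = p)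
    (hinj : Function.Injective (p.app ⊤).hom)
    (hrange : ∀ s : Γ(X, p ⁻¹ᵁ ⊤),
      (∀ g : G, ((ρ g).hom.appLE (p ⁻¹ᵁ ⊤) (p ⁻¹ᵁ ⊤) (SGA1.preimage_le_of_inv ρ p hinv g ⊤)).hom s = s) →
        s ∈ Set.range (p.app ⊤).hom) :
    SGA1.IsQuot ρ p := by
  haveI : IsAffine X := isAffine_of_isAffineHom p
  refine isQuot_of_basis ρ p hinv (fun V => IsAffineOpen V) (fun U y hy => ?_) ?_ ?_
  · obtain ⟨V, hV, hyV, hVU⟩ := exists_isAffineOpen_mem_and_subset (X := Y) (x := y) (U := U) hy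
    exact ⟨V, hV, hyV, hVU⟩
  all_goals
    intro V hV
    have hVU : V ≤ (𝟙 Y) ⁻¹ᵁ (⊤ : Y.Opens) := le_top
    have hle : p ⁻¹ᵁ V ≤ (𝟙 X) ⁻¹ᵁ (p ⁻¹ᵁ ⊤) := le_top
    have H : IsPullback (𝟙 X) p p (𝟙 Y) := IsPullback.of_horiz_isIso ⟨by simp⟩
    have hpo := (isIso_pushoutSection_iff H hVU (le_refl (p ⁻¹ᵁ ⊤)) (inf_eq_right.mpr hle).symm).mp
      (isIso_pushoutSection_of_isAffineOpen H hVU (le_refl (p ⁻¹ᵁ ⊤)) _ (isAffineOpen_top Y) hV
        ((isAffineOpen_top Y).preimage p))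
    have key := invariants_baseChange hpo (Scheme.Hom.flat_appLE (𝟙 Y) (isAffineOpen_top Y) hV hVU)
      (fun g : G => ((ρ g).hom.appLE (p ⁻¹ᵁ ⊤) (p ⁻¹ᵁ ⊤) (SGA1.preimage_le_of_inv ρ p hinv g ⊤)).hom)
      (fun g : G => ((ρ g).hom.appLE (p ⁻¹ᵁ V) (p ⁻¹ᵁ V) (SGA1.preimage_le_of_inv ρ p hinv g V)).hom)
      (fun g r => by
        show ((ρ g).hom.appLE _ _ _).hom ((p.appLE ⊤ (p ⁻¹ᵁ ⊤) le_rfl).hom r) = _
        rw [← CommRingCat.comp_apply, Scheme.Hom.appLE_comp_appLE]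
        simp only [hinv g])
      (fun g x => by
        show ((ρ g).hom.appLE _ _ _).hom (((𝟙 X : X ⟶ X).appLE (p ⁻¹ᵁ ⊤) (p ⁻¹ᵁ V) hle).hom x) =
          ((𝟙 X : X ⟶ X).appLE (p ⁻¹ᵁ ⊤) (p ⁻¹ᵁ V) hle).hom (((ρ g).hom.appLE _ _ _).hom x)
        rw [← CommRingCat.comp_apply, ← CommRingCat.comp_apply, Scheme.Hom.appLE_comp_appLE,
          Scheme.Hom.appLE_comp_appLE]
        simp only [Category.comp_id, Category.id_comp])
      (fun g r => by
        show ((ρ g).hom.appLE _ _ _).hom ((p.appLE V (p ⁻¹ᵁ V) le_rfl).hom r) = _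
        rw [← CommRingCat.comp_apply, Scheme.Hom.appLE_comp_appLE]
        simp only [hinv g])
      (by rw [Scheme.Hom.appLE_eq_app]; exact hinj)
      (fun x hx => by rw [Scheme.Hom.appLE_eq_app]; exact hrange x hx)
    rw [Scheme.Hom.appLE_eq_app] at key
  · exact key.1
  · exact key.2

end H18Quot
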