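import Groth.Agent.H18Quot.Criterion
import Groth.Agent.H18Quot.Categorical

/-! Quotients are local on the quotient. -/

set_option autoImplicit false
set_option linter.style.haveILetI false
universe u

open CategoryTheory AlgebraicGeometry

namespace H18Quot

variable {X Y : Scheme.{u}} {G : Type u} [Group G] (ρ : G →* Aut X) (p : X ⟶ Y)

/-- A morphism which is a quotient over the members of an open covering is a quotient. -/
theorem isQuot_of_cover [IsAffineHom p] (hinv : ∀ g : G, (ρ g).hom ≫ p = p) {ι : Type*}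
    (Xi Yi : ι → Scheme.{u}) (j : ∀ i, Xi i ⟶ X) (k : ∀ i, Yi i ⟶ Y) [∀ i, IsOpenImmersion (j i)]
    [∀ i, IsOpenImmersion (k i)] (q : ∀ i, Xi i ⟶ Yi i) (hw : ∀ i, j i ≫ p = q i ≫ k i)
    (hrange : ∀ i, p ⁻¹ᵁ (k i).opensRange ≤ (j i).opensRange) (ρi : ∀ i, G →* Aut (Xi i))
    (hρ : ∀ i g, (ρi i g).hom ≫ j i = j i ≫ (ρ g).hom) (hq : ∀ i, SGA1.IsQuot (ρi i) (q i))
    (hcov : ∀ y : Y, ∃ i, y ∈ Set.range (k i)) : SGA1.IsQuot ρ p := by
  have hle : ∀ (i : ι) (W : Y.Opens), (q i) ⁻¹ᵁ ((k i) ⁻¹ᵁ W) ≤ (j i) ⁻¹ᵁ (p ⁻¹ᵁ W) := fun i W => by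
    rw [← Scheme.Hom.comp_preimage, ← Scheme.Hom.comp_preimage, hw i]
  have hsq : ∀ (i : ι) (W : Y.Opens), p.app W ≫ (j i).appLE (p ⁻¹ᵁ W) ((q i) ⁻¹ᵁ ((k i) ⁻¹ᵁ W)) (hle i W) =
      (k i).app W ≫ (q i).app ((k i) ⁻¹ᵁ W) := fun i W => by
    simp only [Scheme.Hom.app_eq_appLE, Scheme.Hom.appLE_comp_appLE, hw i]
  have hjiso : ∀ (i : ι) (W : Y.Opens), W ≤ (k i).opensRange →
      IsIso ((j i).appLE (p ⁻¹ᵁ W) ((q i) ⁻¹ᵁ ((k i) ⁻¹ᵁ W)) (hle i W)) := fun i W hW => by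
    haveI := (j i).isIso_app (p ⁻¹ᵁ W) ((p.preimage_mono hW).trans (hrange i))
    have e : (j i) ⁻¹ᵁ (p ⁻¹ᵁ W) = (q i) ⁻¹ᵁ ((k i) ⁻¹ᵁ W) := by
      rw [← Scheme.Hom.comp_preimage, ← Scheme.Hom.comp_preimage, hw i]
    have e' : homOfLE (hle i W) = eqToHom e.symm := Subsingleton.elim _ _
    rw [Scheme.Hom.appLE, e']
    infer_instance
  refine isQuot_of_basis ρ p hinv (fun W => ∃ i, W ≤ (k i).opensRange) (fun U y hy => ?_) ?_ ?_
  · obtain ⟨i, hi⟩ := hcov y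
    exact ⟨U ⊓ (k i).opensRange, ⟨i, inf_le_right⟩, ⟨hy, hi⟩, inf_le_left⟩
  · rintro W ⟨i, hW⟩ a b hab
    haveI := (k i).isIso_app W hW
    apply (ConcreteCategory.bijective_of_isIso ((k i).app W)).injective
    apply (hq i).injective
    rw [← CommRingCat.comp_apply, ← CommRingCat.comp_apply, ← hsq, CommRingCat.comp_apply,
      CommRingCat.comp_apply]
    exact congrArg _ hab
  · rintro W ⟨i, hW⟩ s hs
    haveI := (k i).isIso_app W hW
    haveI := hjiso i W hW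
    obtain ⟨b, hb⟩ := ((hq i).range_iff _ (((j i).appLE (p ⁻¹ᵁ W) ((q i) ⁻¹ᵁ ((k i) ⁻¹ᵁ W)) (hle i W)).hom s)).mpr
      fun g => by
        conv_rhs => rw [← hs g]
        rw [← CommRingCat.comp_apply, ← CommRingCat.comp_apply, Scheme.Hom.appLE_comp_appLE,
          Scheme.Hom.appLE_comp_appLE]
        simp only [hρ i g]
    obtain ⟨a, rfl⟩ := (ConcreteCategory.bijective_of_isIso ((k i).app W)).surjective b
    refine ⟨a, (ConcreteCategory.bijective_of_isIso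
      ((j i).appLE (p ⁻¹ᵁ W) ((q i) ⁻¹ᵁ ((k i) ⁻¹ᵁ W)) (hle i W))).injective (Eq.trans ?_ hb)⟩
    exact congrArg (fun m => m.hom a) (hsq i W)

end H18Quot
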