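import Groth.Agent.H18Quot.Categorical

/-! Rigidity of morphisms into separated étale schemes. -/

set_option autoImplicit false
set_option linter.style.haveILetI false
universe u

open CategoryTheory AlgebraicGeometry CategoryTheory.Limits

namespace H18Quot

/-- Two morphisms from a connected scheme into a separated unramified scheme over `Y` which agree at
one point are equal. -/
theorem eq_of_comp_eq {X X' Y T : Scheme.{u}} [ConnectedSpace X] [Nonempty T] (p : X' ⟶ Y)
    [FormallyUnramified p] [LocallyOfFiniteType p] [IsSeparated p] (u v : X ⟶ X') (h : u ≫ p = v ≫ p)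
    (ξ : T ⟶ X) (e : ξ ≫ u = ξ ≫ v) : u = v := by
  let E : pullback (pullback.lift u v h) (pullback.diagonal p) ⟶ X := pullback.fst _ _
  have hE : E ≫ u = E ≫ v := by
    have h1 := congrArg (· ≫ pullback.fst p p) (pullback.condition (f := pullback.lift u v h) (g := pullback.diagonal p))
    have h2 := congrArg (· ≫ pullback.snd p p) (pullback.condition (f := pullback.lift u v h) (g := pullback.diagonal p))
    simp only [Category.assoc] at h1 h2
    erw [pullback.lift_fst, pullback.diagonal_fst, Category.comp_id] at h1
    erw [pullback.lift_snd, pullback.diagonal_snd, Category.comp_id] at h2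
    exact h1.trans h2.symm
  haveI : IsClosedImmersion E :=
    MorphismProperty.pullback_fst _ _ (inferInstance : IsClosedImmersion (pullback.diagonal p))
  haveI : IsOpenImmersion E :=
    MorphismProperty.pullback_fst _ _ (inferInstance : IsOpenImmersion (pullback.diagonal p))
  have hne : (Set.range E).Nonempty := by
    obtain ⟨t⟩ := ‹Nonempty T›
    refine ⟨_, pullback.lift (f := pullback.lift u v h) (g := pullback.diagonal p) ξ (ξ ≫ u) ?_ t, rfl⟩
    apply pullback.hom_ext
    · erw [Category.assoc, pullback.lift_fst, Category.assoc, Category.assoc, pullback.diagonal_fst, Category.comp_id]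
    · erw [Category.assoc, pullback.lift_snd, Category.assoc, Category.assoc, pullback.diagonal_snd, Category.comp_id]
      exact e.symm
  have hcl : IsClopen (Set.range E) := ⟨E.isClosedEmbedding.isClosed_range, E.isOpenEmbedding.isOpen_range⟩
  have hs : Surjective E := ⟨Set.range_eq_univ.mp (hcl.eq_univ hne)⟩
  haveI : IsIso E := (isIso_iff_isOpenImmersion_and_surjective E).mpr ⟨inferInstance, hs⟩
  exact (cancel_epi E).mp hE

end H18Quot
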