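import Groth.Prelude.Def_SGA1
import Mathlib

/-! Checking that a morphism is a quotient by a group on a basis of opens. -/

set_option autoImplicit false
set_option linter.style.haveILetI false
universe u

open CategoryTheory AlgebraicGeometry TopologicalSpace

namespace H18Quot

variable {X Y : Scheme.{u}} {G : Type u} [Group G] (ρ : G →* Aut X) (p : X ⟶ Y)
  (hinv : ∀ g : G, (ρ g).hom ≫ p = p)

include hinv in
theorem invariant_app (U : Y.Opens) (b : Γ(Y, U)) (g : G) :
    ((ρ g).hom.appLE (p ⁻¹ᵁ U) (p ⁻¹ᵁ U) (SGA1.preimage_le_of_inv ρ p hinv g U)).hom ((p.app U).hom b) =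
      (p.app U).hom b := by
  rw [← CommRingCat.comp_apply, Scheme.Hom.app_eq_appLE, Scheme.Hom.appLE_comp_appLE]
  simp only [hinv g]

/-- A `G`-invariant affine morphism is a quotient if this holds over the opens of a basis. -/
theorem isQuot_of_basis [IsAffineHom p] (P : Y.Opens → Prop)
    (hb : ∀ (U : Y.Opens), ∀ y ∈ U, ∃ V : Y.Opens, P V ∧ y ∈ V ∧ V ≤ U)
    (hinj : ∀ V, P V → Function.Injective (p.app V).hom)
    (hrange : ∀ V, P V → ∀ s : Γ(X, p ⁻¹ᵁ V),
      (∀ g : G, ((ρ g).hom.appLE (p ⁻¹ᵁ V) (p ⁻¹ᵁ V) (SGA1.preimage_le_of_inv ρ p hinv g V)).hom s = s) →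
        s ∈ Set.range (p.app V).hom) :
    SGA1.IsQuot ρ p := by
  have hres : ∀ {U V : Y.Opens} (i : V ≤ U) (a : Γ(Y, U)),
      (p.app V).hom ((Y.presheaf.map (homOfLE i).op).hom a) =
        (X.presheaf.map (homOfLE (p.preimage_mono i)).op).hom ((p.app U).hom a) := fun i a =>
    ConcreteCategory.congr_hom (p.naturality (homOfLE i).op) a
  have hinjU : ∀ U, Function.Injective (p.app U).hom := by
    intro U a b hab
    choose V hV hyV hVU using fun y : U => hb U y y.2
    refine TopCat.Sheaf.eq_of_locally_eq' Y.sheaf V U (fun y => homOfLE (hVU y))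
      (fun y hy => Opens.mem_iSup.mpr ⟨⟨y, hy⟩, hyV _⟩) a b fun y => hinj _ (hV y) ?_
    exact (hres (hVU y) a).trans (by rw [hab]; exact (hres (hVU y) b).symm)
  refine ⟨inferInstance, hinv, hinjU, fun U s => ⟨?_, fun hs => ?_⟩⟩
  · rintro ⟨b, rfl⟩ g
    exact invariant_app ρ p hinv U b g
  choose V hV hyV hVU using fun y : U => hb U y y.2
  have hloc : ∀ y, ∃ b : Γ(Y, V y),
      (p.app (V y)).hom b = (X.presheaf.map (homOfLE (p.preimage_mono (hVU y))).op).hom s := fun y =>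
    hrange _ (hV y) _ fun g => by
      conv_rhs => rw [← hs g]
      rw [← CommRingCat.comp_apply, ← CommRingCat.comp_apply, Scheme.Hom.map_appLE, Scheme.Hom.appLE_map]
  choose b hb' using hloc
  have hcompat : TopCat.Presheaf.IsCompatible Y.sheaf.obj V b := by
    intro y z
    apply hinjU
    refine (hres (inf_le_left : V y ⊓ V z ≤ V y) (b y)).trans (Eq.trans ?_ (hres (inf_le_right : V y ⊓ V z ≤ V z) (b z)).symm)
    rw [hb', hb', ← CommRingCat.comp_apply, ← CommRingCat.comp_apply, ← Functor.map_comp, ← Functor.map_comp]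
    rfl
  obtain ⟨c, hc, -⟩ := TopCat.Sheaf.existsUnique_gluing' Y.sheaf V U (fun y => homOfLE (hVU y))
    (fun y hy => Opens.mem_iSup.mpr ⟨⟨y, hy⟩, hyV _⟩) b hcompat
  refine ⟨c, TopCat.Sheaf.eq_of_locally_eq' X.sheaf (fun y => p ⁻¹ᵁ V y) (p ⁻¹ᵁ U)
    (fun y => homOfLE (p.preimage_mono (hVU y)))
    (fun x hx => Opens.mem_iSup.mpr ⟨⟨p x, hx⟩, hyV _⟩) _ _ fun y => ?_⟩
  exact (hres (hVU y) c).symm.trans (by rw [show (Y.presheaf.map (homOfLE (hVU y)).op).hom c = b y from hc y, hb' y]; rfl)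

end H18Quot
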