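import Groth.Prelude.Def_SGA1
import Mathlib

/-! A quotient map whose sections are equalizers of the overlap is an effective epimorphism. -/

set_option autoImplicit false
set_option linter.style.haveILetI false
universe u

open CategoryTheory AlgebraicGeometry TopologicalSpace Limits

namespace H18Quot.EffEpi

variable {X Y Z : Scheme.{u}} {p : X ⟶ Y} (hqm : Topology.IsQuotientMap p.base)
  (hinj : ∀ U : Y.Opens, Function.Injective (p.app U).hom) (h : X ⟶ Z)
  (hc : pullback.fst p p ≫ h = pullback.snd p p ≫ h)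

include hc in
theorem const_fibre {x₁ x₂ : X} (e : p x₁ = p x₂) : h x₁ = h x₂ := by
  obtain ⟨z, h1, h2⟩ := Scheme.Pullback.exists_preimage_pullback (f := p) (g := p) x₁ x₂ e
  rw [← h1, ← h2, ← Scheme.Hom.comp_apply, hc, Scheme.Hom.comp_apply]

/-- The underlying map of the descended morphism. -/
noncomputable def descBase : C(Y, Z) :=
  ⟨fun y => h (Function.surjInv hqm.surjective y), by
    refine hqm.continuous_iff.mpr ?_
    have e : (fun y => h (Function.surjInv hqm.surjective y)) ∘ p = h :=
      funext fun x => const_fibre h hc (Function.surjInv_eq hqm.surjective (p x))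
    rw [e]
    exact h.continuous⟩

theorem descBase_apply (x : X) : descBase hqm h hc (p x) = h x :=
  const_fibre h hc (Function.surjInv_eq hqm.surjective (p x))

/-- The preimage of an open of `Z`. -/
noncomputable def descPre (V : Z.Opens) : Y.Opens := V.comap (descBase hqm h hc)

theorem preimage_descPre (V : Z.Opens) : p ⁻¹ᵁ descPre hqm h hc V = h ⁻¹ᵁ V := by
  refine SetLike.ext fun x => ?_
  show descBase hqm h hc (p x) ∈ V ↔ h x ∈ V
  rw [descBase_apply]

variable (heq : ∀ (U : Y.Opens) (s' : Γ(X, p ⁻¹ᵁ U)),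
  (SGA1.overlapFstApp p U).hom s' = (SGA1.overlapSndApp p U).hom s' → s' ∈ Set.range (p.app U).hom)

include heq in
theorem mem_range (V : Z.Opens) (s : Γ(Z, V)) :
    (h.appLE V (p ⁻¹ᵁ descPre hqm h hc V) (preimage_descPre hqm h hc V).le).hom s ∈
      Set.range (p.app (descPre hqm h hc V)).hom := by
  refine heq _ _ ?_
  simp only [SGA1.overlapFstApp, SGA1.overlapSndApp, Scheme.Hom.app_eq_appLE]
  rw [← CommRingCat.comp_apply, ← CommRingCat.comp_apply, Scheme.Hom.appLE_comp_appLE,
    Scheme.Hom.appLE_comp_appLE]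
  simp only [hc]

/-- Sections of the descended morphism. -/
noncomputable def descApp (V : Z.Opens) : Γ(Z, V) →+* Γ(Y, descPre hqm h hc V) where
  toFun s := (mem_range hqm h hc heq V s).choose
  map_one' := hinj _ (by rw [(mem_range hqm h hc heq V 1).choose_spec, map_one, map_one])
  map_zero' := hinj _ (by rw [(mem_range hqm h hc heq V 0).choose_spec, map_zero, map_zero])
  map_mul' s t := hinj _ (by
    rw [(mem_range hqm h hc heq V (s * t)).choose_spec, map_mul, map_mul, (mem_range hqm h hc heq V s).choose_spec,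
      (mem_range hqm h hc heq V t).choose_spec])
  map_add' s t := hinj _ (by
    rw [(mem_range hqm h hc heq V (s + t)).choose_spec, map_add, map_add, (mem_range hqm h hc heq V s).choose_spec,
      (mem_range hqm h hc heq V t).choose_spec])

theorem app_descApp (V : Z.Opens) (s : Γ(Z, V)) :
    (p.app (descPre hqm h hc V)).hom (descApp hqm hinj h hc heq V s) =
      (h.appLE V (p ⁻¹ᵁ descPre hqm h hc V) (preimage_descPre hqm h hc V).le).hom s :=
  (mem_range hqm h hc heq V s).choose_spec

/-- The descended morphism of presheafed spaces. -/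
noncomputable def descPsh : Y.toPresheafedSpace ⟶ Z.toPresheafedSpace where
  base := TopCat.ofHom (descBase hqm h hc)
  c :=
    { app := fun V => CommRingCat.ofHom (descApp hqm hinj h hc heq V.unop)
      naturality := fun V W i => by
        refine CommRingCat.hom_ext (RingHom.ext fun s => ?_)
        apply hinj (descPre hqm h hc W.unop)
        show (p.app _).hom (descApp hqm hinj h hc heq W.unop ((Z.presheaf.map i).hom s)) =
          (p.app _).hom ((Y.presheaf.map (homOfLE (show descPre hqm h hc W.unop ≤ descPre hqm h hc V.unop from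
            fun y hy => i.unop.le hy)).op).hom (descApp hqm hinj h hc heq V.unop s))
        rw [app_descApp, ← CommRingCat.comp_apply _ (p.app _), p.naturality, CommRingCat.comp_apply,
          app_descApp, ← CommRingCat.comp_apply, ← CommRingCat.comp_apply, Scheme.Hom.map_appLE,
          Scheme.Hom.appLE_map] }

include hqm hinj hc heq in
theorem exists_desc : ∃ h' : Y ⟶ Z, p ≫ h' = h := by
  let f := descPsh hqm hinj h hc heq
  have hloc : ∀ y, IsLocalHom (f.stalkMap y).hom := by
    intro y
    refine ⟨fun a ha => ?_⟩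
    obtain ⟨x, rfl⟩ := hqm.surjective y
    obtain ⟨V, hV, s, rfl⟩ := Z.presheaf.exists_germ_eq a
    have e := PresheafedSpace.stalkMap_germ_apply f V (p x) hV s
    have hb : p x ∈ Y.basicOpen (descApp hqm hinj h hc heq V s) := by
      rw [Scheme.mem_basicOpen _ _ _ (show p x ∈ descPre hqm h hc V from hV)]
      rw [e] at ha
      exact ha
    have hb' : x ∈ X.basicOpen ((p.app _).hom (descApp hqm hinj h hc heq V s)) := by
      rw [← Scheme.preimage_basicOpen]
      exact hb
    rw [app_descApp, Scheme.Hom.appLE, CommRingCat.comp_apply, Scheme.basicOpen_res,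
      ← Scheme.preimage_basicOpen] at hb'
    have hb2 : h x ∈ Z.basicOpen s := hb'.2
    have hcb : (f.base : Y → Z) (p x) = h x := descBase_apply hqm h hc x
    rw [← hcb, Scheme.mem_basicOpen _ _ _ hV] at hb2
    exact hb2
  let h' : Y ⟶ Z := ⟨{ f with prop := hloc }⟩
  refine ⟨h', ?_⟩
  have hb : (p ≫ h').base = h.base := by
    ext x
    exact descBase_apply hqm h hc x
  refine Scheme.Hom.ext hb fun V => ?_
  refine CommRingCat.hom_ext (RingHom.ext fun s => ?_)
  have e := app_descApp hqm hinj h hc heq V s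
  show (X.presheaf.map _).hom ((p.app (descPre hqm h hc V)).hom (descApp hqm hinj h hc heq V s)) = _
  rw [e, ← CommRingCat.comp_apply, Scheme.Hom.appLE_map, Scheme.Hom.appLE_eq_app]

include hqm hinj in
theorem epi : Epi p := by
  refine ⟨fun {Z} g₁ g₂ h => ?_⟩
  have hb : g₁.base = g₂.base := by
    ext y
    obtain ⟨x, rfl⟩ := hqm.surjective y
    exact congrArg (fun m => m x) h
  refine Scheme.Hom.ext hb fun V => ?_
  ext t
  apply hinj (g₂ ⁻¹ᵁ V)
  have hU : g₂ ⁻¹ᵁ V = g₁ ⁻¹ᵁ V := by
    ext y; simp [hb]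
  have h2 := ConcreteCategory.congr_hom (Scheme.Hom.congr_app h V) t
  simp only [Scheme.Hom.comp_app, ConcreteCategory.comp_apply] at h2
  show ((g₁.app V ≫ Y.presheaf.map (eqToHom hU).op) ≫ p.app (g₂ ⁻¹ᵁ V)) t = (g₂.app V ≫ p.app (g₂ ⁻¹ᵁ V)) t
  rw [Category.assoc, Scheme.Hom.naturality, ConcreteCategory.comp_apply, ConcreteCategory.comp_apply]
  erw [h2]
  erw [← ConcreteCategory.comp_apply, ← X.presheaf.map_comp, Subsingleton.elim (_ ≫ _) (𝟙 _), X.presheaf.map_id]
  rfl

include hqm hinj heq in
theorem effectiveEpi : EffectiveEpi p := by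
  haveI := epi hqm hinj
  have hd : ∀ {W : Scheme.{u}} (e : X ⟶ W),
      (∀ {T : Scheme.{u}} (g₁ g₂ : T ⟶ X), g₁ ≫ p = g₂ ≫ p → g₁ ≫ e = g₂ ≫ e) → ∃ e' : Y ⟶ W, p ≫ e' = e :=
    fun e he => exists_desc hqm hinj e (he _ _ pullback.condition) heq
  exact ⟨⟨
    { desc := fun e he => (hd e (fun g₁ g₂ h => he g₁ g₂ h)).choose
      fac := fun e he => (hd e (fun g₁ g₂ h => he g₁ g₂ h)).choose_spec
      uniq := fun e he m hm => (cancel_epi p).mp
        (hm.trans (hd e (fun g₁ g₂ h => he g₁ g₂ h)).choose_spec.symm) }⟩⟩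

end H18Quot.EffEpi
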