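import Groth.Agent.H18Quot.Galois
import Groth.Agent.H18Quot.Categorical

/-! Free quotients are étale; trivializing finite étale morphisms by sections. -/

set_option autoImplicit false
set_option linter.style.haveILetI false
universe u

open CategoryTheory AlgebraicGeometry CategoryTheory.Limits

namespace H18Quot

open Groth.Agent

variable {X Y : Scheme.{u}} {G : Type u} [Group G] [Finite G] {ρ : G →* Aut X} {p : X ⟶ Y}

/-- `G` acts freely on geometric points. -/
def IsFreePts (ρ : G →* Aut X) : Prop :=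
  ∀ (K : Type u) [Field K] [IsAlgClosed K] (ξ : Spec (CommRingCat.of K) ⟶ X) (g : G), ξ ≫ (ρ g).hom = ξ → g = 1

theorem etale_app (hq : SGA1.IsQuot ρ p) (hfree : IsFreePts ρ) (U : Y.Opens) (hU : IsAffineOpen U) :
    (p.app U).hom.Etale := by
  haveI := hq.affine
  have hA : IsAffineOpen (p ⁻¹ᵁ U) := hU.preimage p
  letI : MulSemiringAction G Γ(X, p ⁻¹ᵁ U) :=
    { smul := fun g a => H27Quot.act hq U g⁻¹ a
      one_smul := fun a => by show H27Quot.act hq U (1 : G)⁻¹ a = a; rw [inv_one, H27Quot.act_one]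
      mul_smul := fun g h a => by
        show H27Quot.act hq U (g * h)⁻¹ a = H27Quot.act hq U g⁻¹ (H27Quot.act hq U h⁻¹ a)
        rw [mul_inv_rev, H27Quot.act_mul]
      smul_zero := fun g => map_zero (H27Quot.act hq U g⁻¹)
      smul_add := fun g => map_add (H27Quot.act hq U g⁻¹)
      smul_one := fun g => map_one (H27Quot.act hq U g⁻¹)
      smul_mul := fun g => map_mul (H27Quot.act hq U g⁻¹) }
  letI := (p.app U).hom.toAlgebra
  have hfix : ∀ (g : G) (b : Γ(Y, U)), g • algebraMap Γ(Y, U) Γ(X, p ⁻¹ᵁ U) b = algebraMap _ _ b :=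
    fun g b => (hq.range_iff U _).mp ⟨b, rfl⟩ g⁻¹
  haveI : SMulCommClass G Γ(Y, U) Γ(X, p ⁻¹ᵁ U) := ⟨fun g b a => by
    rw [Algebra.smul_def, Algebra.smul_def, smul_mul', hfix]⟩
  haveI : Algebra.IsInvariant Γ(Y, U) Γ(X, p ⁻¹ᵁ U) G := ⟨fun a ha =>
    (hq.range_iff U a).mpr fun g => by
      have h := ha g⁻¹
      change H27Quot.act hq U g⁻¹⁻¹ a = a at h
      rwa [inv_inv] at h⟩
  haveI : FaithfulSMul Γ(Y, U) Γ(X, p ⁻¹ᵁ U) :=
    (faithfulSMul_iff_algebraMap_injective _ _).mpr (hq.injective U)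
  refine Galois.etale Γ(Y, U) Γ(X, p ⁻¹ᵁ U) G fun g hg => ?_
  by_contra hne
  obtain ⟨m, hm, hle⟩ := Ideal.exists_le_maximal _ hne
  haveI := hm
  letI : Field (Γ(X, p ⁻¹ᵁ U) ⧸ m) := Ideal.Quotient.field m
  let K := AlgebraicClosure (Γ(X, p ⁻¹ᵁ U) ⧸ m)
  let ψ : Γ(X, p ⁻¹ᵁ U) ⟶ CommRingCat.of K :=
    CommRingCat.ofHom ((algebraMap (Γ(X, p ⁻¹ᵁ U) ⧸ m) K).comp (Ideal.Quotient.mk m))
  refine hg (inv_eq_one.mp (hfree K (Spec.map ψ ≫ hA.fromSpec) g⁻¹ ?_))
  rw [Category.assoc, ← hA.SpecMap_appLE_fromSpec (ρ g⁻¹).hom hA (SGA1.preimage_le_of_inv ρ p hq.inv g⁻¹ U),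
    ← Category.assoc, ← Spec.map_comp]
  congr 2
  refine CommRingCat.hom_ext (RingHom.ext fun a => ?_)
  show algebraMap _ K (Ideal.Quotient.mk m (g • a)) = algebraMap _ K (Ideal.Quotient.mk m a)
  rw [Ideal.Quotient.eq.mpr (hle (Ideal.subset_span ⟨a, rfl⟩))]

theorem etale (hq : SGA1.IsQuot ρ p) (hfree : IsFreePts ρ) : Etale p := by
  haveI := hq.affine
  refine (IsZariskiLocalAtTarget.iff_of_iSup_eq_top (P := @Etale) (fun U : Y.affineOpens => U.1)
    (iSup_affineOpens_eq_top Y)).mpr fun U => ?_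
  haveI : IsAffine U.1.toScheme := U.2
  haveI : IsAffine (p ⁻¹ᵁ U.1).toScheme := U.2.preimage p
  rw [HasRingHomProperty.iff_of_isAffine (P := @Etale), morphismRestrict_appTop]
  exact RingHom.Etale.respectsIso.1 _
    (X.presheaf.mapIso (eqToIso (image_morphismRestrict_preimage p U.1 ⊤)).op).commRingCatIsoToRingEquiv
    (etale_app hq hfree _ ((isAffineOpen_top U.1.toScheme).image_of_isOpenImmersion U.1.ι))

/-- A separated étale scheme over `X` is trivialized by sections which are pairwise distinct at every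
geometric point and jointly surjective. -/
theorem isIso_sigmaDesc_of_sections {X P : Scheme.{u}} {ι : Type u} (q : P ⟶ X) [Etale q]
    (σ : ι → (X ⟶ P)) (hσ : ∀ i, σ i ≫ q = 𝟙 X)
    (hdisj : ∀ (K : Type u) [Field K] [IsAlgClosed K] (ξ : Spec (CommRingCat.of K) ⟶ X) (i j : ι),
      ξ ≫ σ i = ξ ≫ σ j → i = j)
    (hcov : ∀ z : P, ∃ i x, σ i x = z) :
    IsIso (Sigma.desc σ : (∐ fun _ : ι => X) ⟶ P) := by
  haveI : ∀ i, Mono (σ i) := fun i => by
    haveI : Mono (σ i ≫ q) := by rw [hσ]; infer_instance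
    exact mono_of_mono (σ i) q
  haveI : ∀ i, Etale (σ i) := fun i => by
    haveI : Etale (σ i ≫ q) := by rw [hσ]; infer_instance
    exact Etale.of_comp (σ i) q
  haveI : ∀ i, IsOpenImmersion (σ i) := fun i => IsOpenImmersion.of_flat_of_mono (σ i)
  haveI : IsOpenImmersion (Sigma.desc σ) := by
    refine isOpenImmersion_sigmaDesc _ σ fun i j hij => ?_
    refine Set.disjoint_left.mpr ?_
    rintro _ ⟨x, rfl⟩ hz
    let z := σ i x
    let K := AlgebraicClosure (P.residueField z)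
    let c : Spec (CommRingCat.of K) ⟶ P :=
      Spec.map (CommRingCat.ofHom (algebraMap (P.residueField z) K)) ≫ P.fromSpecResidueField z
    have key : ∀ k, z ∈ Set.range (σ k) → c ≫ q ≫ σ k = c := fun k hk => by
      have hr : Set.range c ⊆ Set.range (σ k) := by
        rintro _ ⟨t, rfl⟩
        show (P.fromSpecResidueField z) _ ∈ Set.range (σ k)
        erw [show ∀ s, P.fromSpecResidueField z s = z from fun s => Scheme.fromSpecResidueField_apply _ _]
        exact hk
      rw [← IsOpenImmersion.lift_fac (σ k) c hr, Category.assoc, reassoc_of% (hσ k)]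
    exact hij (hdisj K (c ≫ q) i j
      ((Category.assoc _ _ _).trans ((key i ⟨x, rfl⟩).trans ((key j hz).symm.trans (Category.assoc _ _ _).symm))))
  haveI : Surjective (Sigma.desc σ) := ⟨fun z => by
    obtain ⟨i, x, hx⟩ := hcov z
    refine ⟨Sigma.ι (fun _ : ι => X) i x, ?_⟩
    rw [← Scheme.Hom.comp_apply, Sigma.ι_desc]
    exact hx⟩
  exact (isIso_iff_isOpenImmersion_and_surjective _).mpr ⟨inferInstance, inferInstance⟩

end H18Quot
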