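import Groth.Agent.H18Quot.Unramified
import Groth.Agent.H18Quot.Free

/-! An unramified quotient by a finite group is étale. -/

set_option autoImplicit false
set_option linter.style.haveILetI false
universe u

open CategoryTheory AlgebraicGeometry

namespace H18Quot

open Groth.Agent

variable {X Y : Scheme.{u}} {G : Type u} [Group G] [Finite G] {ρ : G →* Aut X} {p : X ⟶ Y}

theorem etale_app_of_unramified (hq : SGA1.IsQuot ρ p) [FormallyUnramified p] [LocallyOfFiniteType p]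
    (U : Y.Opens) (hU : IsAffineOpen U) : (p.app U).hom.Etale := by
  haveI := hq.affine
  have hA : IsAffineOpen (p ⁻¹ᵁ U) := hU.preimage p
  have hu := HasRingHomProperty.appLE @FormallyUnramified p ‹_› ⟨U, hU⟩ ⟨p ⁻¹ᵁ U, hA⟩ le_rfl
  have hf := HasRingHomProperty.appLE @LocallyOfFiniteType p ‹_› ⟨U, hU⟩ ⟨p ⁻¹ᵁ U, hA⟩ le_rfl
  simp only [Scheme.Hom.appLE_eq_app] at hu hf
  letI : MulSemiringAction G Γ(X, p ⁻¹ᵁ U) :=
    { smul := fun g a => H27Quot.act hq U g⁻¹ a
      one_smul := fun a => by show H27Quot.act hq U (1 : G)⁻¹ a = a; rw [inv_one, H27Quot.act_one]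
      mul_smul := fun g h a => by
        show H27Quot.act hq U (g * h)⁻¹ a = H27Quot.act hq U g⁻¹ (H27Quot.act hq U h⁻¹ a)
        rw [mul_inv_rev, H27Quot.act_mul]
      smul_zero := fun g => map_zero (H27Quot.act hq U g⁻¹)
      smul_add := fun g => map_add (H27Quot.act hq U g⁻¹)
      smul_one := fun g => map_one (H27Quot.act hq U g⁻¹)
      smul_mul := fun g => map_mul (H27Quot.act hq U g⁻¹) }
  letI := (p.app U).hom.toAlgebra
  have hfix : ∀ (g : G) (b : Γ(Y, U)), g • algebraMap Γ(Y, U) Γ(X, p ⁻¹ᵁ U) b = algebraMap _ _ b :=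
    fun g b => (hq.range_iff U _).mp ⟨b, rfl⟩ g⁻¹
  haveI : SMulCommClass G Γ(Y, U) Γ(X, p ⁻¹ᵁ U) := ⟨fun g b a => by
    rw [Algebra.smul_def, Algebra.smul_def, smul_mul', hfix]⟩
  haveI : Algebra.IsInvariant Γ(Y, U) Γ(X, p ⁻¹ᵁ U) G := ⟨fun a ha =>
    (hq.range_iff U a).mpr fun g => by
      have h := ha g⁻¹
      change H27Quot.act hq U g⁻¹⁻¹ a = a at h
      rwa [inv_inv] at h⟩
  haveI : FaithfulSMul Γ(Y, U) Γ(X, p ⁻¹ᵁ U) :=
    (faithfulSMul_iff_algebraMap_injective _ _).mpr (hq.injective U)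
  haveI : Algebra.FormallyUnramified Γ(Y, U) Γ(X, p ⁻¹ᵁ U) := hu
  haveI : Algebra.FiniteType Γ(Y, U) Γ(X, p ⁻¹ᵁ U) := hf
  exact Galois.etale_of_unramified Γ(Y, U) Γ(X, p ⁻¹ᵁ U) G

theorem etale_of_unramified (hq : SGA1.IsQuot ρ p) [FormallyUnramified p] [LocallyOfFiniteType p] :
    Etale p := by
  haveI := hq.affine
  refine (IsZariskiLocalAtTarget.iff_of_iSup_eq_top (P := @Etale) (fun U : Y.affineOpens => U.1)
    (iSup_affineOpens_eq_top Y)).mpr fun U => ?_
  haveI : IsAffine U.1.toScheme := U.2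
  haveI : IsAffine (p ⁻¹ᵁ U.1).toScheme := U.2.preimage p
  rw [HasRingHomProperty.iff_of_isAffine (P := @Etale), morphismRestrict_appTop]
  exact RingHom.Etale.respectsIso.1 _
    (X.presheaf.mapIso (eqToIso (image_morphismRestrict_preimage p U.1 ⊤)).op).commRingCatIsoToRingEquiv
    (etale_app_of_unramified hq _ ((isAffineOpen_top U.1.toScheme).image_of_isOpenImmersion U.1.ι))

end H18Quot
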