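import Groth.Agent.H18Quot.Categorical

/-! Stable affine neighbourhoods of orbits. -/

set_option autoImplicit false
set_option linter.style.haveILetI false
universe u

open CategoryTheory AlgebraicGeometry TopologicalSpace

namespace H18Quot

variable {X : Scheme.{u}} {G : Type u} [Group G] [Finite G] (ρ : G →* Aut X)

theorem rho_mul (a b : G) : (ρ (a * b)).hom = (ρ b).hom ≫ (ρ a).hom := by rw [map_mul]; rfl

theorem rho_one : (ρ 1).hom = 𝟙 X := by rw [map_one]; rfl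

theorem preimage_mul (a b : G) (U : X.Opens) :
    (ρ (a * b)).hom ⁻¹ᵁ U = (ρ b).hom ⁻¹ᵁ ((ρ a).hom ⁻¹ᵁ U) := by
  rw [rho_mul, Scheme.Hom.comp_preimage]

theorem mem_finsetInf {ι : Type*} (s : Finset ι) (F : ι → X.Opens) (y : X) :
    y ∈ s.inf F ↔ ∀ i ∈ s, y ∈ F i := by
  classical
  induction s using Finset.induction_on with
  | empty => simp
  | @insert a s _ ih =>
    rw [Finset.inf_insert, Opens.mem_inf, ih, Finset.forall_mem_insert]

/-- Orbits contained in an affine open have arbitrarily small stable affine neighbourhoods. -/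
theorem exists_stable_affine (h : ∀ x : X, ∃ U : X.Opens, IsAffineOpen U ∧ ∀ g : G, (ρ g).hom x ∈ U)
    (x : X) (W : X.Opens) (hW : ∀ g, W ≤ (ρ g).hom ⁻¹ᵁ W) (hx : x ∈ W) :
    ∃ V : X.Opens, IsAffineOpen V ∧ (∀ g, V ≤ (ρ g).hom ⁻¹ᵁ V) ∧ x ∈ V ∧ V ≤ W := by
  classical
  haveI := Fintype.ofFinite G
  obtain ⟨U, hU, hxU⟩ := h x
  let W' : X.Opens := W ⊓ Finset.univ.inf fun g : G => (ρ g).hom ⁻¹ᵁ U
  have hmemW' : ∀ y, y ∈ W' ↔ y ∈ W ∧ ∀ g, (ρ g).hom y ∈ U := fun y => by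
    show y ∈ W ∧ y ∈ (Finset.univ.inf fun g : G => (ρ g).hom ⁻¹ᵁ U : X.Opens) ↔ _
    rw [mem_finsetInf]
    exact and_congr_right fun _ => ⟨fun h g => h g (Finset.mem_univ g), fun h g _ => h g⟩
  have hW'U : W' ≤ U := fun y hy => by
    have := ((hmemW' y).mp hy).2 1
    rwa [rho_one] at this
  have hW'st : ∀ g, W' ≤ (ρ g).hom ⁻¹ᵁ W' := fun g y hy => by
    show (ρ g).hom y ∈ W'
    rw [hmemW'] at hy ⊢
    exact ⟨hW g hy.1, fun k => by rw [← Scheme.Hom.comp_apply, ← rho_mul]; exact hy.2 _⟩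
  have hxg : ∀ g, (ρ g).hom x ∈ W' := fun g => hW'st g ((hmemW' x).mpr ⟨hx, hxU⟩)
  -- a section of `U` whose basic open is inside `W'` and contains the orbit
  obtain ⟨I, hI⟩ : ∃ I : Ideal Γ(X, U), ((hU.fromSpec ⁻¹ᵁ W' : (Spec Γ(X, U)).Opens) : Set (Spec Γ(X, U)))ᶜ = PrimeSpectrum.zeroLocus I :=
    (PrimeSpectrum.isClosed_iff_zeroLocus_ideal _).mp (hU.fromSpec ⁻¹ᵁ W').2.isClosed_compl
  obtain ⟨f, hfI, hf⟩ : ∃ f ∈ I, ∀ g, f ∉ (hU.primeIdealOf ⟨_, hxU g⟩).asIdeal := by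
    by_contra hc
    push Not at hc
    obtain ⟨g, -, hg⟩ := (Ideal.subset_union_prime (s := (Finset.univ : Finset G))
      (f := fun g => (hU.primeIdealOf ⟨_, hxU g⟩).asIdeal) 1 1 (fun _ _ _ _ => inferInstance)).mp
      fun f hf => by simpa using hc f hf
    have hmem : hU.primeIdealOf ⟨_, hxU g⟩ ∈ ((hU.fromSpec ⁻¹ᵁ W' : (Spec Γ(X, U)).Opens) : Set (Spec Γ(X, U)))ᶜ := by
      rw [hI]
      exact hg
    apply hmem
    show hU.fromSpec _ ∈ W'
    rw [hU.fromSpec_primeIdealOf]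
    exact hxg g
  have hD : X.basicOpen f ≤ W' := by
    rw [← hU.fromSpec_image_basicOpen]
    rintro _ ⟨q, hq, rfl⟩
    by_contra hne
    have hqI : q ∈ ((hU.fromSpec ⁻¹ᵁ W' : (Spec Γ(X, U)).Opens) : Set (Spec Γ(X, U)))ᶜ := hne
    rw [hI] at hqI
    exact hq (hqI hfI)
  have hxD : ∀ g, (ρ g).hom x ∈ X.basicOpen f := fun g => by
    have : hU.primeIdealOf ⟨_, hxU g⟩ ∈ PrimeSpectrum.basicOpen f := hf g
    rw [← hU.fromSpec_image_basicOpen]
    exact ⟨_, this, hU.fromSpec_primeIdealOf _⟩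
  have key : ∀ s : Finset G, IsAffineOpen (X.basicOpen f ⊓ s.inf fun g => (ρ g).hom ⁻¹ᵁ X.basicOpen f) := by
    intro s
    induction s using Finset.induction_on with
    | empty => simpa using hU.basicOpen f
    | @insert g s _ ih =>
      set Vs := X.basicOpen f ⊓ s.inf fun g => (ρ g).hom ⁻¹ᵁ X.basicOpen f with hVs
      let T := (ρ g⁻¹).hom ⁻¹ᵁ Vs
      have hT : IsAffineOpen T := ih.preimage_of_isIso (ρ g⁻¹).hom
      have hTU : T ≤ U := fun y hy => hW'U (by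
        have h1 : (ρ g⁻¹).hom y ∈ W' := hD hy.1
        have h2 := hW'st g h1
        change (ρ g).hom ((ρ g⁻¹).hom y) ∈ W' at h2
        rwa [← Scheme.Hom.comp_apply, ← rho_mul, mul_inv_cancel, rho_one] at h2)
      have e : X.basicOpen f ⊓ (insert g s).inf (fun g => (ρ g).hom ⁻¹ᵁ X.basicOpen f) =
          (ρ g).hom ⁻¹ᵁ (X.basicOpen ((X.presheaf.map (homOfLE hTU).op).hom f)) := by
        rw [Scheme.basicOpen_res, Scheme.Hom.preimage_inf, ← preimage_mul, inv_mul_cancel, rho_one,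
          Finset.inf_insert, inf_left_comm, inf_comm ((ρ g).hom ⁻¹ᵁ _)]
        rfl
      rw [e]
      exact (hT.basicOpen _).preimage_of_isIso (ρ g).hom
  let V : X.Opens := X.basicOpen f ⊓ Finset.univ.inf fun g => (ρ g).hom ⁻¹ᵁ X.basicOpen f
  have hmemV : ∀ y, y ∈ V ↔ ∀ g, (ρ g).hom y ∈ X.basicOpen f := fun y => by
    show y ∈ X.basicOpen f ∧ y ∈ (Finset.univ.inf fun g : G => (ρ g).hom ⁻¹ᵁ X.basicOpen f : X.Opens) ↔ _
    rw [mem_finsetInf]
    simp only [Finset.mem_univ, forall_const]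
    exact ⟨fun h => h.2, fun h => ⟨by have := h 1; rwa [rho_one] at this, fun g => h g⟩⟩
  refine ⟨V, key _, fun g y hy => ?_, (hmemV x).mpr hxD, fun y hy => ((hmemW' y).mp (hD hy.1)).1⟩
  show (ρ g).hom y ∈ V
  rw [hmemV] at hy ⊢
  intro k
  rw [← Scheme.Hom.comp_apply, ← rho_mul]
  exact hy _

end H18Quot
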