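import Groth.Agent.H18Quot.OnCover
import Groth.Agent.H18Quot.StableAffine
import Groth.Agent.H18Quot.Affine
import Groth.Agent.S13606

/-! Existence of quotients by finite groups. -/

set_option autoImplicit false
set_option backward.isDefEq.respectTransparency false
set_option linter.style.haveILetI false
universe u

open CategoryTheory AlgebraicGeometry Limits TopologicalSpace

namespace H18Quot.Exists

open Groth.Agent

variable {X : Scheme.{u}} {G : Type u} [Group G] [Finite G] (ρ : G →* Aut X)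

/-- The stable affine opens. -/
def Piece : Type u := {V : X.Opens // IsAffineOpen V ∧ ∀ g : G, V ≤ (ρ g).hom ⁻¹ᵁ V}

instance : Preorder (Piece ρ) := Preorder.lift Subtype.val

/-- The action on a piece. -/
noncomputable def act (V : Piece ρ) : G →* Aut V.1.toScheme where
  toFun g :=
    { hom := (ρ g).hom.resLE V.1 V.1 (V.2.2 g)
      inv := (ρ g⁻¹).hom.resLE V.1 V.1 (V.2.2 g⁻¹)
      hom_inv_id := by
        rw [Scheme.Hom.resLE_comp_resLE, ← cancel_mono V.1.ι, Scheme.Hom.resLE_comp_ι, ← rho_mul,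
          inv_mul_cancel, rho_one, Category.comp_id, Category.id_comp]
      inv_hom_id := by
        rw [Scheme.Hom.resLE_comp_resLE, ← cancel_mono V.1.ι, Scheme.Hom.resLE_comp_ι, ← rho_mul,
          mul_inv_cancel, rho_one, Category.comp_id, Category.id_comp] }
  map_one' := Iso.ext (by
    show (ρ 1).hom.resLE V.1 V.1 _ = 𝟙 _
    rw [← cancel_mono V.1.ι, Scheme.Hom.resLE_comp_ι, rho_one, Category.comp_id, Category.id_comp])
  map_mul' a b := Iso.ext (by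
    show (ρ (a * b)).hom.resLE V.1 V.1 _ = (ρ b).hom.resLE V.1 V.1 _ ≫ (ρ a).hom.resLE V.1 V.1 _
    rw [Scheme.Hom.resLE_comp_resLE, ← cancel_mono V.1.ι, Scheme.Hom.resLE_comp_ι, Scheme.Hom.resLE_comp_ι,
      rho_mul])

theorem act_ι (V : Piece ρ) (g : G) : (act ρ V g).hom ≫ V.1.ι = V.1.ι ≫ (ρ g).hom :=
  Scheme.Hom.resLE_comp_ι _ _

/-- The invariant functions of a piece. -/
noncomputable def invs (V : Piece ρ) : Subring Γ(V.1.toScheme, ⊤) where
  carrier := {a | ∀ g : G, (act ρ V g).hom.appTop.hom a = a}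
  mul_mem' ha hb g := by rw [map_mul, ha g, hb g]
  one_mem' g := map_one _
  add_mem' ha hb g := by rw [map_add, ha g, hb g]
  zero_mem' g := map_zero _
  neg_mem' ha g := by rw [map_neg, ha g]

/-- The quotient of a piece. -/
noncomputable def obj (V : Piece ρ) : Scheme.{u} := Spec (CommRingCat.of (invs ρ V))

/-- The projection to the quotient of a piece. -/
noncomputable def proj (V : Piece ρ) : V.1.toScheme ⟶ obj ρ V :=
  V.1.toScheme.toSpecΓ ≫ Spec.map (CommRingCat.ofHom (invs ρ V).subtype)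

instance (V : Piece ρ) : IsAffine V.1.toScheme := V.2.1

instance (V : Piece ρ) : IsAffine (obj ρ V) := inferInstanceAs (IsAffine (Spec _))

theorem appTop_proj (V : Piece ρ) :
    (proj ρ V).appTop = (Scheme.ΓSpecIso (CommRingCat.of (invs ρ V))).hom ≫ CommRingCat.ofHom (invs ρ V).subtype := by
  erw [Scheme.Hom.comp_appTop, Scheme.toSpecΓ_appTop]
  exact Scheme.ΓSpecIso_naturality _

theorem isQuot_proj (V : Piece ρ) : SGA1.IsQuot (act ρ V) (proj ρ V) := by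
  haveI : IsAffineHom (proj ρ V) := isAffineHom_of_isAffine _
  have hinv : ∀ g : G, (act ρ V g).hom ≫ proj ρ V = proj ρ V := fun g => by
    rw [proj, Scheme.toSpecΓ_naturality_assoc]
    refine congrArg (V.1.toScheme.toSpecΓ ≫ ·) ((Spec.map_comp _ _).symm.trans (congrArg Spec.map ?_))
    exact CommRingCat.hom_ext (RingHom.ext fun a => a.2 g)
  refine isQuot_of_isAffine _ _ hinv (fun a b hab => ?_) fun s hs => ?_
  · have h := hab
    rw [show (proj ρ V).app ⊤ = (proj ρ V).appTop from rfl, appTop_proj] at h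
    exact (ConcreteCategory.bijective_of_isIso (Scheme.ΓSpecIso (CommRingCat.of (invs ρ V))).hom).injective
      (Subtype.ext h)
  · have hs' : (s : Γ(V.1.toScheme, ⊤)) ∈ invs ρ V := fun g => by
      have h := hs g
      simp only [Scheme.Hom.appLE] at h
      erw [CategoryTheory.Functor.map_id, Category.comp_id] at h
      exact h
    refine ⟨(Scheme.ΓSpecIso (CommRingCat.of (invs ρ V))).inv.hom ⟨s, hs'⟩, ?_⟩
    rw [show (proj ρ V).app ⊤ = (proj ρ V).appTop from rfl, appTop_proj]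
    exact congrArg Subtype.val
      ((Scheme.ΓSpecIso (CommRingCat.of (invs ρ V))).commRingCatIsoToRingEquiv.apply_symm_apply ⟨s, hs'⟩)

theorem exists_map {V W : Piece ρ} (h : V ≤ W) :
    ∃ d : obj ρ V ⟶ obj ρ W, proj ρ V ≫ d = X.homOfLE h ≫ proj ρ W :=
  exists_desc _ (fun g => by
    have e : (act ρ V g).hom ≫ X.homOfLE h = X.homOfLE h ≫ (act ρ W g).hom := by
      rw [← cancel_mono W.1.ι]
      simp only [Category.assoc, Scheme.homOfLE_ι, act_ι, Scheme.homOfLE_ι_assoc]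
    rw [reassoc_of% e, (isQuot_proj ρ W).inv]) (isQuot_proj ρ V)

/-- The diagram of quotients of stable affine opens. -/
noncomputable def diagram : Piece ρ ⥤ Scheme.{u} where
  obj := obj ρ
  map f := (exists_map ρ (leOfHom f)).choose
  map_id V := by
    haveI := H27Quot.epi (isQuot_proj ρ V)
    rw [← cancel_epi (proj ρ V), (exists_map ρ (leOfHom (𝟙 V))).choose_spec]
    simp
  map_comp {U V W} f g := by
    haveI := H27Quot.epi (isQuot_proj ρ U)
    rw [← cancel_epi (proj ρ U), (exists_map ρ (leOfHom (f ≫ g))).choose_spec,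
      reassoc_of% (exists_map ρ (leOfHom f)).choose_spec, (exists_map ρ (leOfHom g)).choose_spec,
      ← Category.assoc, Scheme.homOfLE_homOfLE]

theorem proj_map {V W : Piece ρ} (f : V ⟶ W) :
    proj ρ V ≫ (diagram ρ).map f = X.homOfLE (leOfHom f) ≫ proj ρ W :=
  (exists_map ρ (leOfHom f)).choose_spec

theorem proj_map_apply {V W : Piece ρ} (f : V ⟶ W) (a : V.1.toScheme) :
    (diagram ρ).map f (proj ρ V a) = proj ρ W (X.homOfLE (leOfHom f) a) :=
  congr($(proj_map ρ f) a)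

theorem proj_smul {V : Piece ρ} {a b : V.1.toScheme} :
    proj ρ V a = proj ρ V b ↔ ∃ g, (ρ g).hom a.1 = b.1 := by
  constructor
  · intro e
    obtain ⟨g, hg⟩ := exists_smul_eq (isQuot_proj ρ V) e
    refine ⟨g, ?_⟩
    rw [← hg]
    exact (congr($(act_ι ρ V g) a)).symm
  · rintro ⟨g, hg⟩
    have e : (act ρ V g).hom a = b := Subtype.ext ((congr($(act_ι ρ V g) a)).trans hg)
    rw [← e, ← Scheme.Hom.comp_apply, (isQuot_proj ρ V).inv]

instance isOpenImmersion_map {V W : Piece ρ} (f : V ⟶ W) : IsOpenImmersion ((diagram ρ).map f) := by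
  have h : V.1 ≤ W.1 := leOfHom f
  have hW := isQuot_proj ρ W
  haveI := isIntegralHom hW
  let U : (obj ρ W).Opens := ⟨(proj ρ W '' ((W.1.ι ⁻¹ᵁ V.1 : W.1.toScheme.Opens) : Set W.1.toScheme)ᶜ)ᶜ,
    ((proj ρ W).isClosedMap _ (W.1.ι ⁻¹ᵁ V.1).2.isClosed_compl).isOpen_compl⟩
  have hU : proj ρ W ⁻¹ᵁ U = W.1.ι ⁻¹ᵁ V.1 := by
    refine SetLike.ext fun x => ⟨fun hx => ?_, fun hx => ?_⟩
    · by_contra hne
      exact hx ⟨x, hne, rfl⟩
    · rintro ⟨y, hy, e⟩
      obtain ⟨g, hg⟩ := (proj_smul ρ).mp e.symm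
      refine hy ?_
      show y.1 ∈ V.1
      rw [← hg]
      exact V.2.2 g hx
  let ψ : V.1.toScheme ⟶ (proj ρ W ⁻¹ᵁ U).toScheme :=
    IsOpenImmersion.lift (proj ρ W ⁻¹ᵁ U).ι (X.homOfLE h) (by
      rintro _ ⟨x, rfl⟩
      rw [Scheme.Opens.range_ι, hU]
      show (X.homOfLE h x).1 ∈ V.1
      rw [show (X.homOfLE h x).1 = x.1 from congr($(Scheme.homOfLE_ι X h) x)]
      exact x.2)
  have hψ : ψ ≫ (proj ρ W ⁻¹ᵁ U).ι = X.homOfLE h := IsOpenImmersion.lift_fac _ _ _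
  haveI : IsOpenImmersion (ψ ≫ (proj ρ W ⁻¹ᵁ U).ι) := by rw [hψ]; infer_instance
  haveI : IsOpenImmersion ψ := IsOpenImmersion.of_comp _ (proj ρ W ⁻¹ᵁ U).ι
  haveI : Surjective ψ := ⟨fun x => by
    have hx : ((proj ρ W ⁻¹ᵁ U).ι x).1 ∈ V.1 := hU.le x.2
    refine ⟨⟨((proj ρ W ⁻¹ᵁ U).ι x).1, hx⟩, (proj ρ W ⁻¹ᵁ U).ι.isOpenEmbedding.injective ?_⟩
    rw [← Scheme.Hom.comp_apply, hψ]
    exact Subtype.ext (congr($(Scheme.homOfLE_ι X h) ⟨((proj ρ W ⁻¹ᵁ U).ι x).1, hx⟩))⟩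
  haveI : IsIso ψ := (isIso_iff_isOpenImmersion_and_surjective ψ).mpr ⟨inferInstance, inferInstance⟩
  let ρU : G →* Aut (proj ρ W ⁻¹ᵁ U).toScheme := (asIso ψ).conjAut.toMonoidHom.comp (act ρ V)
  have hρU : ∀ g, (ρU g).hom = inv ψ ≫ (act ρ V g).hom ≫ ψ := fun g => rfl
  have hcomm : ∀ g, (ρU g).hom ≫ (proj ρ W ⁻¹ᵁ U).ι = (proj ρ W ⁻¹ᵁ U).ι ≫ (act ρ W g).hom := by
    intro g
    rw [hρU, Category.assoc, Category.assoc, hψ, IsIso.inv_comp_eq, reassoc_of% hψ, ← cancel_mono W.1.ι]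
    simp only [Category.assoc, Scheme.homOfLE_ι, act_ι, Scheme.homOfLE_ι_assoc]
  have hres := S13606.result (act ρ W) (proj ρ W) hW U ρU hcomm
  obtain ⟨e, he⟩ := exists_desc (ψ ≫ proj ρ W ∣_ U) (fun g => by
    have e1 : (act ρ V g).hom ≫ ψ = ψ ≫ (ρU g).hom := by rw [hρU, IsIso.hom_inv_id_assoc]
    rw [reassoc_of% e1, hres.inv g]) (isQuot_proj ρ V)
  obtain ⟨e', he'⟩ := exists_desc (inv ψ ≫ proj ρ V) (fun g => by
    rw [hρU, Category.assoc, Category.assoc, IsIso.hom_inv_id_assoc, (isQuot_proj ρ V).inv]) hres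
  haveI := H27Quot.epi (isQuot_proj ρ V)
  haveI := H27Quot.epi hres
  haveI : IsIso e := ⟨e', by
      rw [← cancel_epi (proj ρ V), reassoc_of% he, he', IsIso.hom_inv_id_assoc, Category.comp_id], by
      rw [← cancel_epi (proj ρ W ∣_ U), reassoc_of% he', he, IsIso.inv_hom_id_assoc, Category.comp_id]⟩
  have hd : (diagram ρ).map f = e ≫ U.ι := by
    refine (cancel_epi (proj ρ V)).mp ((proj_map ρ f).trans ?_)
    exact (congrArg (· ≫ proj ρ W) hψ.symm).trans ((Category.assoc _ _ _).trans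
      ((congrArg (ψ ≫ ·) (morphismRestrict_ι (proj ρ W) U).symm).trans ((Category.assoc _ _ _).symm.trans
        ((congrArg (· ≫ U.ι) he.symm).trans (Category.assoc _ _ _)))))
  rw [hd]
  exact IsOpenImmersion.comp e U.ι

variable (h : ∀ x : X, ∃ U : X.Opens, IsAffineOpen U ∧ ∀ g : G, (ρ g).hom x ∈ U)

include h in
theorem exists_piece_le (x : X) (W : X.Opens) (hW : ∀ g, W ≤ (ρ g).hom ⁻¹ᵁ W) (hx : x ∈ W) :
    ∃ V : Piece ρ, x ∈ V.1 ∧ V.1 ≤ W := by
  obtain ⟨V, h1, h2, h3, h4⟩ := exists_stable_affine ρ h x W hW hx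
  exact ⟨⟨V, h1, h2⟩, h3, h4⟩

include h in
theorem isLocallyDirected : (diagram ρ ⋙ Scheme.forget).IsLocallyDirected := by
  refine ⟨fun {i j k} fi fj xi xj e => ?_⟩
  change (diagram ρ).map fi xi = (diagram ρ).map fj xj at e
  obtain ⟨a, rfl⟩ := H27Quot.surjective (isQuot_proj ρ i) xi
  obtain ⟨b, rfl⟩ := H27Quot.surjective (isQuot_proj ρ j) xj
  replace e := (proj_map_apply ρ fi a).symm.trans (e.trans (proj_map_apply ρ fj b))
  obtain ⟨g, hg⟩ := (proj_smul ρ).mp e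
  have ha : (X.homOfLE (leOfHom fi) a).1 = a.1 := congr($(Scheme.homOfLE_ι X (leOfHom fi)) a)
  have hb : (X.homOfLE (leOfHom fj) b).1 = b.1 := congr($(Scheme.homOfLE_ι X (leOfHom fj)) b)
  rw [ha, hb] at hg
  obtain ⟨l, hl, hle⟩ := exists_piece_le ρ h b.1 (i.1 ⊓ j.1)
    (fun g z hz => ⟨i.2.2 g hz.1, j.2.2 g hz.2⟩) ⟨by rw [← hg]; exact i.2.2 g a.2, b.2⟩
  have hli : l ≤ i := fun z hz => (hle hz).1
  have hlj : l ≤ j := fun z hz => (hle hz).2
  refine ⟨l, homOfLE hli, homOfLE hlj, proj ρ l ⟨b.1, hl⟩, ?_, ?_⟩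
  · show (diagram ρ).map _ (proj ρ l _) = _
    refine (proj_map_apply ρ _ _).trans ?_
    refine ((proj_smul ρ).mpr ⟨g, hg.trans ?_⟩).symm
    exact (congr($(Scheme.homOfLE_ι X hli) ⟨b.1, hl⟩)).symm
  · show (diagram ρ).map _ (proj ρ l _) = _
    refine (proj_map_apply ρ _ _).trans ?_
    refine congrArg (proj ρ j) (Subtype.ext ?_)
    exact congr($(Scheme.homOfLE_ι X hlj) ⟨b.1, hl⟩)

include h in
theorem exists_quotient : ∃ (Y : Scheme.{u}) (p : X ⟶ Y), SGA1.IsQuot ρ p := by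
  haveI := isLocallyDirected ρ h
  let Y := colimit (diagram ρ)
  have hcov : IsOpenCover (fun V : Piece ρ => V.1) := IsOpenCover.mk (eq_top_iff.mpr fun x _ => by
    obtain ⟨V, hV, -⟩ := exists_piece_le ρ h x ⊤ (fun _ => le_top) trivial
    exact Opens.mem_iSup.mpr ⟨V, hV⟩)
  let 𝒰 := X.openCoverOfIsOpenCover (fun V : Piece ρ => V.1) hcov
  let f : ∀ V : Piece ρ, V.1.toScheme ⟶ Y := fun V => proj ρ V ≫ colimit.ι (diagram ρ) V
  have hf : ∀ {L V : Piece ρ} (hl : L ≤ V), X.homOfLE hl ≫ f V = f L := fun {L V} hl => by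
    simp only [f, ← Category.assoc]
    rw [← proj_map ρ (homOfLE hl), Category.assoc, colimit.w]
  have hcompat : ∀ V W : Piece ρ, pullback.fst V.1.ι W.1.ι ≫ f V = pullback.snd V.1.ι W.1.ι ≫ f W := by
    intro V W
    let a := pullback.fst V.1.ι W.1.ι ≫ V.1.ι
    let I := {L : Piece ρ // L ≤ V ∧ L ≤ W}
    have hI : IsOpenCover (fun L : I => a ⁻¹ᵁ L.1.1) := IsOpenCover.mk (eq_top_iff.mpr fun z _ => by
      have hz : a z ∈ W.1 := by
        simp only [a, pullback.condition, Scheme.Hom.comp_apply]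
        exact (pullback.snd V.1.ι W.1.ι z).2
      obtain ⟨L, hL, hle⟩ := exists_piece_le ρ h (a z) (V.1 ⊓ W.1)
        (fun g x hx => ⟨V.2.2 g hx.1, W.2.2 g hx.2⟩) ⟨(pullback.fst V.1.ι W.1.ι z).2, hz⟩
      exact Opens.mem_iSup.mpr ⟨⟨L, fun x hx => (hle hx).1, fun x hx => (hle hx).2⟩, hL⟩)
    refine Scheme.Cover.hom_ext ((pullback V.1.ι W.1.ι).openCoverOfIsOpenCover _ hI) _ _ fun L => ?_
    let b : (a ⁻¹ᵁ L.1.1).toScheme ⟶ L.1.1.toScheme := a ∣_ L.1.1
    have hb : b ≫ L.1.1.ι = (a ⁻¹ᵁ L.1.1).ι ≫ a := morphismRestrict_ι a L.1.1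
    have h1 : (a ⁻¹ᵁ L.1.1).ι ≫ pullback.fst V.1.ι W.1.ι = b ≫ X.homOfLE L.2.1 := by
      rw [← cancel_mono V.1.ι, Category.assoc, Category.assoc, Scheme.homOfLE_ι, hb]
    have h2 : (a ⁻¹ᵁ L.1.1).ι ≫ pullback.snd V.1.ι W.1.ι = b ≫ X.homOfLE L.2.2 := by
      rw [← cancel_mono W.1.ι, Category.assoc, Category.assoc, Scheme.homOfLE_ι, hb]
      simp only [a, pullback.condition]
    show (a ⁻¹ᵁ L.1.1).ι ≫ _ = (a ⁻¹ᵁ L.1.1).ι ≫ _
    exact (Category.assoc _ _ _).symm.trans ((congrArg (· ≫ f V) h1).trans ((Category.assoc _ _ _).trans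
      ((congrArg (b ≫ ·) (hf L.2.1)).trans ((congrArg (b ≫ ·) (hf L.2.2)).symm.trans ((Category.assoc _ _ _).symm.trans
        ((congrArg (· ≫ f W) h2).symm.trans (Category.assoc _ _ _)))))))
  let p : X ⟶ Y := 𝒰.glueMorphisms f hcompat
  have hp : ∀ V : Piece ρ, V.1.ι ≫ p = f V := fun V => 𝒰.ι_glueMorphisms f hcompat V
  have hinv : ∀ g, (ρ g).hom ≫ p = p := fun g => by
    refine Scheme.Cover.hom_ext 𝒰 _ _ fun V => ?_
    show V.1.ι ≫ _ = V.1.ι ≫ _
    rw [← Category.assoc, ← act_ι, Category.assoc, hp]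
    simp only [f, ← Category.assoc, (isQuot_proj ρ V).inv]
  have hrange : ∀ V : Piece ρ, p ⁻¹ᵁ (colimit.ι (diagram ρ) V).opensRange ≤ V.1 := by
    rintro V z ⟨y, hy⟩
    obtain ⟨L, hL, -⟩ := exists_piece_le ρ h z ⊤ (fun _ => le_top) trivial
    have hz : p z = colimit.ι (diagram ρ) L (proj ρ L ⟨z, hL⟩) := congr($(hp L) ⟨z, hL⟩)
    rw [hz] at hy
    obtain ⟨M, fV, fL, m, -, hm⟩ := (Scheme.IsLocallyDirected.ι_eq_ι_iff (diagram ρ)).mp hy
    obtain ⟨w, rfl⟩ := H27Quot.surjective (isQuot_proj ρ M) m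
    replace hm := (proj_map_apply ρ fL w).symm.trans hm
    obtain ⟨g, hg⟩ := (proj_smul ρ).mp hm
    have hw : (X.homOfLE (leOfHom fL) w).1 = w.1 := congr($(Scheme.homOfLE_ι X (leOfHom fL)) w)
    rw [hw] at hg
    show z ∈ V.1
    rw [← show (ρ g).hom w.1 = z from hg]
    exact V.2.2 g (leOfHom fV w.2)
  have hcovY : ∀ y : Y, ∃ V, y ∈ Set.range (colimit.ι (diagram ρ) V) := fun y => by
    obtain ⟨V, v, hv⟩ := Scheme.IsLocallyDirected.ι_jointly_surjective (diagram ρ) y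
    exact ⟨V, v, hv⟩
  have hpre : ∀ V : Piece ρ, p ⁻¹ᵁ (colimit.ι (diagram ρ) V).opensRange = V.1 := fun V =>
    le_antisymm (hrange V) fun z hz => ⟨proj ρ V ⟨z, hz⟩, (congr($(hp V) ⟨z, hz⟩)).symm⟩
  haveI : IsAffineHom p := isAffineHom_of_forall_exists_isAffineOpen p fun y => by
    obtain ⟨V, hV⟩ := hcovY y
    haveI : IsAffine ((diagram ρ).obj V) := inferInstanceAs (IsAffine (obj ρ V))
    exact ⟨_, hV, isAffineOpen_opensRange _, by rw [hpre]; exact V.2.1⟩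
  refine ⟨Y, p, isQuot_of_cover ρ p hinv (fun V : Piece ρ => V.1.toScheme) (fun V => obj ρ V)
    (fun V => V.1.ι) (fun V => colimit.ι (diagram ρ) V) (fun V => proj ρ V) hp
    (fun V => by rw [Scheme.Opens.opensRange_ι]; exact hrange V)
    (act ρ) (fun V g => act_ι ρ V g) (fun V => isQuot_proj ρ V) hcovY⟩

end H18Quot.Exists
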