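import Mathlib

/-! Free actions of finite groups on rings: Galois extensions in the sense of Chase–Harrison–Rosenberg. -/

set_option autoImplicit false

universe u

open TensorProduct

namespace H18Quot.Galois

variable (B A : Type u) (G : Type u) [CommRing B] [CommRing A] [Algebra B A] [Group G]
  [MulSemiringAction G A] [SMulCommClass G B A]

/-- `x ⊗ y ↦ x * g y`. -/
noncomputable def phi (g : G) : A ⊗[B] A →ₐ[B] A :=
  Algebra.TensorProduct.lift (AlgHom.id B A) (MulSemiringAction.toAlgHom B A g) fun _ _ => Commute.all _ _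

theorem phi_tmul (g : G) (x y : A) : phi B A G g (x ⊗ₜ y) = x * g • y := by
  simp [phi]

/-- The action is free: no element other than `1` is trivial modulo a prime ideal. -/
def IsFree : Prop := ∀ g : G, g ≠ 1 → Ideal.span (Set.range fun a : A => g • a - a) = ⊤

variable [Finite G]

theorem exists_delta (h : IsFree A G) :
    ∃ u : A ⊗[B] A, phi B A G 1 u = 1 ∧ ∀ g : G, g ≠ 1 → phi B A G g u = 0 := by
  classical
  haveI := Fintype.ofFinite G
  have h1 : ∀ g : {g : G // g ≠ 1}, ∃ u : A ⊗[B] A, phi B A G 1 u = 1 ∧ phi B A G g.1 u = 0 := by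
    intro g
    have h1 : (1 : A) ∈ Ideal.span (Set.range fun a : A => g.1 • a - a) := by rw [h g.1 g.2]; trivial
    obtain ⟨c, hc⟩ := Finsupp.mem_ideal_span_range_iff_exists_finsupp.mp h1
    refine ⟨(c.sum fun a x => (-x) ⊗ₜ a) - ((c.sum fun a x => (-x) * g.1 • a) ⊗ₜ 1), ?_, ?_⟩
    · simp only [map_sub, map_finsuppSum, phi_tmul, one_smul, mul_one]
      rw [← Finsupp.sum_sub, ← hc]
      exact Finsupp.sum_congr fun a _ => by ring
    · simp only [map_sub, map_finsuppSum, phi_tmul, smul_one, mul_one, sub_self]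
  choose u hu1 hug using h1
  refine ⟨∏ g, u g, ?_, fun g hg => ?_⟩
  · rw [map_prod]
    exact Finset.prod_eq_one fun g _ => hu1 g
  · rw [map_prod]
    exact Finset.prod_eq_zero (Finset.mem_univ ⟨g, hg⟩) (hug ⟨g, hg⟩)

variable [Algebra.IsInvariant B A G]

omit [SMulCommClass G B A] in
theorem trace_mem [Fintype G] (a : A) : ∑ g : G, g • a ∈ Set.range (algebraMap B A) := by
  obtain ⟨b, hb⟩ := Algebra.IsInvariant.isInvariant (A := B) (G := G) (∑ g : G, g • a) fun h => by
    rw [Finset.smul_sum]
    exact Fintype.sum_equiv (Equiv.mulLeft h) _ _ fun g => (mul_smul h g a).symm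
  exact ⟨b, hb⟩

include B in
theorem exists_dualBasis [Fintype G] (h : IsFree A G) :
    ∃ (n : ℕ) (x y : Fin n → A), (∀ a : A, a = ∑ i, x i * ∑ g : G, g • (y i * a)) ∧
      ∀ g : G, g ≠ 1 → ∑ i, x i * g • y i = 0 := by
  classical
  obtain ⟨u, hu1, hu0⟩ := exists_delta B A G h
  obtain ⟨S, rfl⟩ := TensorProduct.exists_finset u
  obtain ⟨n, x, y, hS⟩ : ∃ (n : ℕ) (x y : Fin n → A),
      (S.sum fun i => i.1 ⊗ₜ[B] i.2) = ∑ i, x i ⊗ₜ[B] y i :=
    ⟨_, fun i => (S.equivFin.symm i).1.1, fun i => (S.equivFin.symm i).1.2, by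
      rw [S.equivFin.symm.sum_comp fun i : S => i.1.1 ⊗ₜ[B] i.1.2]
      exact (S.sum_coe_sort _).symm⟩
  rw [hS] at hu1 hu0
  simp only [map_sum, phi_tmul, one_smul] at hu1 hu0
  refine ⟨n, x, y, fun a => ?_, hu0⟩
  have e : ∑ i, x i * ∑ g : G, g • (y i * a) = ∑ g : G, (∑ i, x i * g • y i) * g • a := by
    simp only [smul_mul', Finset.mul_sum, Finset.sum_mul]
    rw [Finset.sum_comm]
    exact Finset.sum_congr rfl fun g _ => Finset.sum_congr rfl fun i _ => by ring
  rw [e, Finset.sum_eq_single 1 (fun g _ hg => by rw [hu0 g hg, zero_mul])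
    (fun h => absurd (Finset.mem_univ _) h)]
  simp only [one_smul, hu1, one_mul]

variable [FaithfulSMul B A]

theorem projective_and_finite (h : IsFree A G) : Module.Projective B A ∧ Module.Finite B A := by
  classical
  haveI := Fintype.ofFinite G
  obtain ⟨n, x, y, hxy, -⟩ := exists_dualBasis B A G h
  choose tr htr using trace_mem B A G
  have hinj := FaithfulSMul.algebraMap_injective B A
  let f : A →ₗ[B] (Fin n → B) := LinearMap.pi fun i =>
    { toFun := fun a => tr (y i * a)
      map_add' := fun a b => hinj (by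
        simp only [map_add, htr, mul_add, smul_add, Finset.sum_add_distrib])
      map_smul' := fun r a => hinj (by
        simp only [smul_eq_mul, RingHom.id_apply, map_mul, htr, Finset.mul_sum, Algebra.smul_def]
        refine Finset.sum_congr rfl fun g _ => ?_
        rw [show y i * (algebraMap B A r * a) = algebraMap B A r * (y i * a) by ring, smul_mul',
          smul_algebraMap]) }
  let k : (Fin n → B) →ₗ[B] A := ∑ i, (LinearMap.proj i).smulRight (x i)
  have hk : k.comp f = LinearMap.id := by
    ext a
    simp only [k, f, LinearMap.comp_apply, LinearMap.sum_apply, LinearMap.smulRight_apply,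
      LinearMap.proj_apply, LinearMap.pi_apply, LinearMap.coe_mk, AddHom.coe_mk, LinearMap.id_apply,
      Algebra.smul_def, htr]
    conv_rhs => rw [hxy a]
    exact Finset.sum_congr rfl fun i _ => mul_comm _ _
  exact ⟨Module.Projective.of_split f k hk,
    Module.Finite.of_surjective k fun a => ⟨f a, congr($hk a)⟩⟩

theorem formallyUnramified (h : IsFree A G) : Algebra.FormallyUnramified B A := by
  classical
  haveI := Fintype.ofFinite G
  obtain ⟨n, x, y, hxy, -⟩ := exists_dualBasis B A G h
  choose tr htr using trace_mem B A G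
  obtain ⟨u, hu1, hu0⟩ := exists_delta B A G h
  have hzero : ∀ z : A ⊗[B] A, (∀ g : G, phi B A G g z = 0) → z = 0 := by
    intro z hz
    have key : ∀ z : A ⊗[B] A, z = ∑ i, (∑ g : G, phi B A G g (z * (1 ⊗ₜ y i))) ⊗ₜ x i := by
      intro z
      induction z using TensorProduct.induction_on with
      | zero => simp
      | tmul a b =>
        conv_lhs => rw [hxy b, tmul_sum]
        refine Finset.sum_congr rfl fun i _ => ?_
        rw [show x i * ∑ g : G, g • (y i * b) = tr (y i * b) • x i by rw [Algebra.smul_def, htr, mul_comm],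
          ← smul_tmul, Algebra.smul_def, htr]
        congr 1
        simp only [Algebra.TensorProduct.tmul_mul_tmul, phi_tmul, mul_one, Finset.mul_sum, Finset.sum_mul]
        exact Finset.sum_congr rfl fun g _ => by rw [mul_comm, mul_comm (y i)]
      | add a b ha hb =>
        conv_lhs => rw [ha, hb]
        simp only [add_mul, map_add, Finset.sum_add_distrib, add_tmul]
    rw [key z]
    simp [hz]
  refine ⟨Ideal.cotangent_subsingleton_iff _ |>.mpr ?_⟩
  refine le_antisymm (Ideal.mul_le_left) fun z hz => ?_
  have hz1 : phi B A G 1 z = 0 := by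
    rw [← show Algebra.TensorProduct.lmul' B z = phi B A G 1 z from ?_]
    · exact hz
    · congr 1
      apply Algebra.TensorProduct.ext' fun a b => by simp [phi_tmul]
  have hzu : z * u = 0 := hzero _ fun g => by
    by_cases hg : g = 1
    · rw [hg, map_mul, hz1, zero_mul]
    · rw [map_mul, hu0 g hg, mul_zero]
  have hmem : (1 - u) ∈ KaehlerDifferential.ideal B A := by
    show Algebra.TensorProduct.lmul' B (1 - u) = 0
    rw [show (Algebra.TensorProduct.lmul' B : A ⊗[B] A →ₐ[B] A) = phi B A G 1 from
      Algebra.TensorProduct.ext' fun a b => by simp [phi_tmul], map_sub, map_one, hu1, sub_self]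
  have : z = z * (1 - u) := by rw [mul_sub, mul_one, hzu, sub_zero]
  rw [this]
  exact Ideal.mul_mem_mul hz hmem

theorem etale (h : IsFree A G) : Algebra.Etale B A := by
  obtain ⟨hp, hf⟩ := projective_and_finite B A G h
  haveI := hp
  haveI := hf
  haveI : Module.FinitePresentation B A := Module.finitePresentation_of_projective B A
  haveI := formallyUnramified B A G h
  exact Algebra.Etale.of_formallyUnramified_of_flat

end H18Quot.Galois
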