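import Groth.Agent.H18Quot.Categorical

/-! Residue fields in quotients by finite groups. -/

set_option autoImplicit false
set_option linter.style.haveILetI false
universe u

open CategoryTheory AlgebraicGeometry

namespace H18Quot

open Groth.Agent

variable {X Y : Scheme.{u}} {G : Type u} [Group G] [Finite G] {ρ : G →* Aut X} {p : X ⟶ Y}

theorem residueFieldMap_isIntegral (hq : SGA1.IsQuot ρ p) (x : X) :
    (p.residueFieldMap x).hom.IsIntegral := by
  intro a
  haveI := hq.affine
  obtain ⟨U, hU, hxU, -⟩ := exists_isAffineOpen_mem_and_subset (X := Y) (x := p x) (U := ⊤) trivial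
  have hA := hU.preimage p
  letI := TopCat.Presheaf.algebra_section_stalk X.presheaf (⟨x, hxU⟩ : ↥(p ⁻¹ᵁ U))
  haveI : IsLocalization.AtPrime (X.presheaf.stalk x) (hA.primeIdealOf ⟨x, hxU⟩).asIdeal :=
    hA.isLocalization_stalk ⟨x, hxU⟩
  letI : Algebra (Y.residueField (p x)) (X.residueField x) := (p.residueFieldMap x).hom.toAlgebra
  have hev : ∀ s : Γ(X, p ⁻¹ᵁ U), IsIntegral (Y.residueField (p x)) ((X.evaluation (p ⁻¹ᵁ U) x hxU).hom s) := by
    intro s
    obtain ⟨P, hP, hev⟩ := H27Quot.isIntegral_app hq U s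
    refine ⟨P.map (Y.evaluation U (p x) hxU).hom, hP.map _, ?_⟩
    rw [Polynomial.eval₂_map,
      show (algebraMap (Y.residueField (p x)) (X.residueField x)).comp (Y.evaluation U (p x) hxU).hom =
        ((X.evaluation (p ⁻¹ᵁ U) x hxU).hom).comp (p.app U).hom from
      RingHom.ext fun b => Scheme.evaluation_naturality_apply p x hxU b,
      ← Polynomial.hom_eval₂, hev, map_zero]
  obtain ⟨b, rfl⟩ := X.residue_surjective x a
  obtain ⟨⟨s, t⟩, hst⟩ := IsLocalization.surj (hA.primeIdealOf ⟨x, hxU⟩).asIdeal.primeCompl b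
  have ht : (X.evaluation (p ⁻¹ᵁ U) x hxU).hom t.1 ≠ 0 := by
    intro h0
    exact ((IsLocalization.map_units (X.presheaf.stalk x) t).map (X.residue x).hom).ne_zero h0
  have e : (X.residue x).hom b = (X.evaluation (p ⁻¹ᵁ U) x hxU).hom s * ((X.evaluation (p ⁻¹ᵁ U) x hxU).hom t.1)⁻¹ := by
    rw [eq_mul_inv_iff_mul_eq₀ ht]
    exact ((X.residue x).hom.map_mul _ _).symm.trans (congrArg (X.residue x).hom hst)
  rw [e]
  exact (hev s).mul (hev t.1).inv

theorem exists_stabilizer (hq : SGA1.IsQuot ρ p) (x : X) {K : Type u} [Field K]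
    (φ₁ φ₂ : X.residueField x ⟶ CommRingCat.of K)
    (h : p.residueFieldMap x ≫ φ₁ = p.residueFieldMap x ≫ φ₂) :
    ∃ (g : G) (e : (ρ g).hom x = x),
      φ₂ = (X.residueFieldCongr e).inv ≫ (ρ g).hom.residueFieldMap x ≫ φ₁ := by
  obtain ⟨g, hg⟩ := H27Quot.exists_eq_comp_of_point hq (Spec.map φ₁ ≫ X.fromSpecResidueField x)
    (Spec.map φ₂ ≫ X.fromSpecResidueField x) (by
      rw [Category.assoc, Category.assoc, ← Scheme.Hom.SpecMap_residueFieldMap_fromSpecResidueField,
        ← Category.assoc, ← Category.assoc, ← Spec.map_comp, ← Spec.map_comp, h])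
  have e : (ρ g).hom x = x := by
    have h1 := congrArg (fun m => m (IsLocalRing.closedPoint K)) hg
    simp only [Scheme.Hom.comp_apply] at h1
    erw [Scheme.fromSpecResidueField_apply, Scheme.fromSpecResidueField_apply] at h1
    exact h1.symm
  refine ⟨g, e, Spec.map_injective ((cancel_mono (X.fromSpecResidueField x)).mp (hg.trans ?_))⟩
  rw [Category.assoc, ← Scheme.Hom.SpecMap_residueFieldMap_fromSpecResidueField,
    ← Scheme.residueFieldCongr_fromSpecResidueField e.symm, Spec.map_comp, Spec.map_comp, Category.assoc,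
    Category.assoc]
  rfl

theorem normal (hq : SGA1.IsQuot ρ p) (x : X) :
    letI := (p.residueFieldMap x).hom.toAlgebra
    Normal (Y.residueField (p x)) (X.residueField x) := by
  letI := (p.residueFieldMap x).hom.toAlgebra
  haveI : Algebra.IsAlgebraic (Y.residueField (p x)) (X.residueField x) :=
    ⟨fun a => IsIntegral.isAlgebraic (show IsIntegral (Y.residueField (p x)) a from residueFieldMap_isIntegral hq x a)⟩
  refine normal_iff.mpr fun a => ⟨residueFieldMap_isIntegral hq x a, ?_⟩
  let K := AlgebraicClosure (X.residueField x)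
  refine Polynomial.Splits.of_splits_map (algebraMap (X.residueField x) K) (IsAlgClosed.splits _) fun z hz => ?_
  have hz' : z ∈ (minpoly (Y.residueField (p x)) a).rootSet K := by
    rw [Polynomial.mem_rootSet]
    refine ⟨minpoly.ne_zero (residueFieldMap_isIntegral hq x a), ?_⟩
    have := Polynomial.isRoot_of_mem_roots hz
    rwa [Polynomial.IsRoot.def, Polynomial.map_map, Polynomial.eval_map, ← IsScalarTower.algebraMap_eq,
      ← Polynomial.aeval_def] at this
  rw [← Algebra.IsAlgebraic.range_eval_eq_rootSet_minpoly (A := K) a] at hz'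
  obtain ⟨ψ, rfl⟩ := hz'
  obtain ⟨g, e, hg⟩ := exists_stabilizer hq x (CommRingCat.ofHom (algebraMap (X.residueField x) K))
    (CommRingCat.ofHom ψ.toRingHom) (CommRingCat.hom_ext (RingHom.ext fun r => (ψ.commutes r).symm))
  exact ⟨_, (congrArg (fun m : X.residueField x ⟶ CommRingCat.of K => m.hom a) hg).symm⟩

end H18Quot
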