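import Groth.Agent.H18Quot.Galois

/-! Unramified quotients by finite groups are étale. -/

set_option autoImplicit false

universe u

open TensorProduct

namespace H18Quot.Galois

variable (B A : Type u) (G : Type u) [CommRing B] [CommRing A] [Algebra B A] [Group G]
  [MulSemiringAction G A] [SMulCommClass G B A]

omit [SMulCommClass G B A] in
theorem smul_eq_self_of_mem {g : G} {e a : A} (h : e * (g • a - a) = 0) : g • a * e = a * e := by
  rwa [mul_sub, sub_eq_zero, mul_comm, mul_comm e] at h

variable [Algebra.FormallyUnramified B A] [Algebra.FiniteType B A]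

include B in
/-- The fixed locus of each element is cut out by an idempotent. -/
theorem exists_idempotent (g : G) :
    ∃ f : A, IsIdempotentElem f ∧ (∀ a : A, f * (g • a - a) = 0) ∧
      (1 - f) ∈ Ideal.span (Set.range fun a : A => g • a - a) := by
  obtain ⟨e, he, hspan⟩ := (Ideal.isIdempotentElem_iff_of_fg _ (KaehlerDifferential.ideal_fg B A)).mp
    ((Ideal.cotangent_subsingleton_iff _).mp (inferInstance : Subsingleton (Ω[A⁄B])))
  refine ⟨1 - phi B A G g e, (he.map (phi B A G g)).one_sub, fun a => ?_, ?_⟩
  · have hm : (1 : A) ⊗ₜ[B] a - a ⊗ₜ[B] 1 ∈ Ideal.span {e} := by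
      rw [← Ideal.submodule_span_eq, ← hspan, ← KaehlerDifferential.span_range_eq_ideal B A]
      exact Ideal.subset_span ⟨a, rfl⟩
    obtain ⟨t, ht⟩ := Ideal.mem_span_singleton'.mp hm
    have h1 := congrArg (phi B A G g) ht
    simp only [map_mul, map_sub, phi_tmul, one_mul, smul_one, mul_one] at h1
    rw [← h1, sub_mul, one_mul, show phi B A G g e * (phi B A G g t * phi B A G g e) =
      phi B A G g t * (phi B A G g e * phi B A G g e) by ring, (he.map (phi B A G g)).eq, sub_self]
  · rw [sub_sub_cancel]
    have hm : e ∈ KaehlerDifferential.ideal B A := by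
      rw [hspan]
      exact Submodule.mem_span_singleton_self e
    have h0 : Algebra.TensorProduct.lmul' B e = 0 := hm
    have key : ∀ z : A ⊗[B] A, phi B A G g z - Algebra.TensorProduct.lmul' B z ∈
        Ideal.span (Set.range fun a : A => g • a - a) := by
      intro z
      induction z using TensorProduct.induction_on with
      | zero => simp
      | tmul x y =>
        rw [phi_tmul, Algebra.TensorProduct.lmul'_apply_tmul, ← mul_sub]
        exact Ideal.mul_mem_left _ _ (Ideal.subset_span ⟨y, rfl⟩)
      | add x y hx hy =>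
        rw [map_add, map_add, add_sub_add_comm]
        exact Ideal.add_mem _ hx hy
    simpa [h0] using key e

variable [Finite G] [Algebra.IsInvariant B A G]

/-- Every element decomposes along traces over the cosets of the inertia of a piece. -/
theorem exists_piece (H : Subgroup G) (e : A) (hfix : ∀ h ∈ H, ∀ a : A, h • a * e = a * e)
    (he : e * e = e) (hout : ∀ g ∉ H, e ∈ Ideal.span (Set.range fun a : A => g • a - a)) :
    ∃ (n : ℕ) (x : Fin n → A) (f : A →ₗ[B] (Fin n → A)),
      (∀ a i, f a i ∈ Set.range (algebraMap B A)) ∧ ∀ a, ∑ i, x i * f a i = a * e := by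
  classical
  haveI := Fintype.ofFinite G
  have hu : ∀ g : {g : G // g ∉ H}, ∃ u : A ⊗[B] A, phi B A G g.1 u = 0 ∧ phi B A G 1 u = e := by
    intro g
    obtain ⟨c, hc⟩ := Finsupp.mem_ideal_span_range_iff_exists_finsupp.mp (hout g.1 g.2)
    refine ⟨(c.sum fun a x => (-x) ⊗ₜ a) - ((c.sum fun a x => (-x) * g.1 • a) ⊗ₜ 1), ?_, ?_⟩
    · simp only [map_sub, map_finsuppSum, phi_tmul, smul_one, mul_one, sub_self]
    · simp only [map_sub, map_finsuppSum, phi_tmul, one_smul, mul_one]
      rw [← Finsupp.sum_sub, ← hc]
      exact Finsupp.sum_congr fun a _ => by ring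
  choose u hu0 hu1 using hu
  have hsame : ∀ h ∈ H, ∀ z : A ⊗[B] A, phi B A G h z * e = phi B A G 1 z * e := by
    intro h hh z
    induction z using TensorProduct.induction_on with
    | zero => simp
    | tmul x y => simp only [phi_tmul, one_smul, mul_assoc, hfix h hh y]
    | add x y hx hy => simp only [map_add, add_mul, hx, hy]
  let U : A ⊗[B] A := (e ⊗ₜ 1) * ∏ g, u g
  have hUin : ∀ h ∈ H, phi B A G h U * e = e := by
    intro h hh
    rw [hsame h hh]
    simp only [U, map_mul, map_prod, hu1, phi_tmul, one_smul, mul_one, Finset.prod_const]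
    rw [← pow_succ', ← pow_succ]
    exact IsIdempotentElem.pow_succ_eq _ (show IsIdempotentElem e from he)
  have hUout : ∀ g ∉ H, phi B A G g U = 0 := fun g hg => by
    simp only [U, map_mul, map_prod]
    rw [Finset.prod_eq_zero (Finset.mem_univ ⟨g, hg⟩) (hu0 ⟨g, hg⟩), mul_zero]
  obtain ⟨S, hS⟩ := TensorProduct.exists_finset U
  let x := fun i => (S.equivFin.symm i).1.1
  let y := fun i => (S.equivFin.symm i).1.2
  have hsum : ∀ g, phi B A G g U = ∑ i, x i * g • y i := fun g => by
    rw [hS, map_sum, ← S.sum_coe_sort, ← S.equivFin.symm.sum_comp]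
    simp only [phi_tmul, x, y]
  haveI : Fintype (G ⧸ H) := Fintype.ofFinite _
  let T : A →ₗ[B] A := ∑ q : G ⧸ H, DistribSMul.toLinearMap B A q.out
  have hT : ∀ a, T a = ∑ q : G ⧸ H, q.out • a := fun a => by
    simp [T, LinearMap.sum_apply]
  have hhe : ∀ h ∈ H, h • e = e := by
    intro h hh
    have h1 := hfix h hh e
    have h2 := congrArg (h • ·) (hfix h⁻¹ (H.inv_mem hh) e)
    simp only [smul_mul', smul_inv_smul, he] at h1 h2
    rw [mul_comm] at h1
    exact h2.symm.trans h1
  have hTinv : ∀ b, T (e * b) ∈ Set.range (algebraMap B A) := by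
    intro b
    obtain ⟨r, hr⟩ := Algebra.IsInvariant.isInvariant (A := B) (G := G) (T (e * b)) fun k => by
      rw [hT, Finset.smul_sum]
      refine Fintype.sum_equiv (MulAction.toPerm k) _ _ fun q => ?_
      obtain ⟨h, hh⟩ := QuotientGroup.mk_out_eq_mul H (k * q.out)
      have e1 : ((k * q.out : G) : G ⧸ H) = k • q := by
        conv_rhs => rw [← QuotientGroup.out_eq' q]
        rfl
      rw [e1] at hh
      show k • q.out • (e * b) = (k • q).out • (e * b)
      rw [hh, mul_smul _ (h : G), smul_mul' (h : G), hhe h h.2, mul_comm e ((h : G) • b), hfix h h.2,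
        mul_comm b e, mul_smul]
    exact ⟨r, hr⟩
  refine ⟨_, fun i => x i * e, LinearMap.pi fun i => T ∘ₗ LinearMap.mulLeft B (e * y i), fun a i => ?_,
    fun a => ?_⟩
  · simp only [LinearMap.pi_apply, LinearMap.comp_apply, LinearMap.mulLeft_apply, mul_assoc]
    exact hTinv _
  · simp only [LinearMap.pi_apply, LinearMap.comp_apply, LinearMap.mulLeft_apply, hT, Finset.mul_sum]
    rw [Finset.sum_comm]
    have e1 : ∀ q : G ⧸ H, ∑ i, x i * e * q.out • (e * y i * a) =
        e * q.out • e * phi B A G q.out U * q.out • a := fun q => by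
      rw [hsum, Finset.mul_sum, Finset.sum_mul]
      exact Finset.sum_congr rfl fun i _ => by rw [smul_mul', smul_mul']; ring
    simp only [e1]
    rw [Finset.sum_eq_single ((1 : G) : G ⧸ H)]
    · obtain ⟨h, hh⟩ := QuotientGroup.mk_out_eq_mul H (1 : G)
      rw [one_mul] at hh
      rw [hh, hhe h h.2, he, mul_comm e (phi B A G h U), hUin h h.2, mul_comm e, hfix h h.2]
    · intro q _ hq
      rw [hUout q.out fun hmem => hq ?_, mul_zero, zero_mul]
      conv_lhs => rw [← QuotientGroup.out_eq' q]
      exact QuotientGroup.eq.mpr (by simpa using H.inv_mem hmem)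
    · exact fun h => absurd (Finset.mem_univ _) h

variable [FaithfulSMul B A]

include G in
theorem projective_and_finite_of_unramified : Module.Projective B A ∧ Module.Finite B A := by
  classical
  haveI := Fintype.ofFinite G
  choose f hf hfix hout using exists_idempotent B A G
  let e : Finset G → A := fun S => (∏ g ∈ S, f g) * ∏ g ∈ Finset.univ \ S, (1 - f g)
  have hsum : ∑ S, e S = 1 := by
    have h1 := Finset.prod_add f (fun g => 1 - f g) Finset.univ
    simp only [add_sub_cancel, Finset.prod_const_one, Finset.powerset_univ] at h1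
    exact h1.symm
  have he : ∀ S, e S * e S = e S := fun S => by
    simp only [e]
    rw [mul_mul_mul_comm, ← Finset.prod_mul_distrib, ← Finset.prod_mul_distrib]
    simp only [(hf _).eq, (hf _).one_sub.eq]
  let H : Finset G → Subgroup G := fun S =>
    { carrier := {g | ∀ a : A, g • a * e S = a * e S}
      one_mem' := fun a => by rw [one_smul]
      mul_mem' := fun {g h} hg hh a => by rw [mul_smul, hg, hh]
      inv_mem' := fun {g} hg a => by
        have := hg (g⁻¹ • a)
        rw [smul_inv_smul] at this
        exact this.symm }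
  have hpiece := fun S => exists_piece B A G (H S) (e S) (fun h hh => hh) (he S) fun g hg => by
    by_cases hgS : g ∈ S
    · refine absurd (fun a => smul_eq_self_of_mem A G ?_) hg
      simp only [e, ← Finset.mul_prod_erase _ _ hgS]
      rw [show f g * (∏ i ∈ S.erase g, f i) * (∏ i ∈ Finset.univ \ S, (1 - f i)) * (g • a - a) =
        (∏ i ∈ S.erase g, f i) * (∏ i ∈ Finset.univ \ S, (1 - f i)) * (f g * (g • a - a)) by ring,
        hfix, mul_zero]
    · have hgS' : g ∈ Finset.univ \ S := by simp [hgS]
      simp only [e, ← Finset.mul_prod_erase _ _ hgS']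
      exact Ideal.mul_mem_left _ _ (Ideal.mul_mem_right _ _ (hout g))
  choose n x F hF hxF using hpiece
  choose tr htr using fun (S : Finset G) (i : Fin (n S)) (a : A) => hF S a i
  have hinj := FaithfulSMul.algebraMap_injective B A
  let P : A →ₗ[B] ((Σ S, Fin (n S)) → B) := LinearMap.pi fun p =>
    { toFun := tr p.1 p.2
      map_add' := fun a b => hinj (by rw [map_add, htr, htr, htr, map_add]; rfl)
      map_smul' := fun r a => hinj (by
        rw [RingHom.id_apply, smul_eq_mul, map_mul, htr, htr, map_smul, Pi.smul_apply, Algebra.smul_def]) }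
  let k : ((Σ S, Fin (n S)) → B) →ₗ[B] A := ∑ p, (LinearMap.proj p).smulRight (x p.1 p.2)
  have hk : k.comp P = LinearMap.id := by
    ext a
    simp only [k, P, LinearMap.comp_apply, LinearMap.sum_apply, LinearMap.smulRight_apply,
      LinearMap.proj_apply, LinearMap.pi_apply, LinearMap.coe_mk, AddHom.coe_mk, LinearMap.id_apply,
      Algebra.smul_def, htr, Fintype.sum_sigma]
    conv_rhs => rw [← mul_one a, ← hsum, Finset.mul_sum]
    exact Finset.sum_congr rfl fun S _ => by rw [← hxF S a]; exact Finset.sum_congr rfl fun i _ => mul_comm _ _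
  exact ⟨Module.Projective.of_split P k hk, Module.Finite.of_surjective k fun a => ⟨P a, congr($hk a)⟩⟩

include G in
theorem etale_of_unramified : Algebra.Etale B A := by
  obtain ⟨hp, hf⟩ := projective_and_finite_of_unramified B A G
  haveI := hp
  haveI := hf
  haveI : Module.FinitePresentation B A := Module.finitePresentation_of_projective B A
  exact Algebra.Etale.of_formallyUnramified_of_flat

end H18Quot.Galois
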